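import Groth.Agent.CIGenLib.Elim
import Mathlib

/-!
# Zariski closed subsets of affine spaces: preimages, projections from projective space
-/

set_option autoImplicit false
set_option linter.unusedSectionVars false

universe u

open MvPolynomial

namespace LefPenLib

variable {k : Type u} [Field k]

/-- Outside `Z` some polynomial vanishing on `Z` does not vanish. -/
def PolyClosed {σ : Type*} (Z : Set (σ → k)) : Prop :=
  ∀ p ∉ Z, ∃ Φ : MvPolynomial σ k, eval p Φ ≠ 0 ∧ ∀ q ∈ Z, eval q Φ = 0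

theorem polyClosed_zeros {σ : Type*} {ι : Type*} (E : ι → MvPolynomial σ k) :
    PolyClosed {p : σ → k | ∀ l, eval p (E l) = 0} := fun p hp => by
  obtain ⟨l, hl⟩ := not_forall.1 hp
  exact ⟨E l, hl, fun q hq => hq l⟩

theorem PolyClosed.preimage {σ τ : Type*} {Z : Set (σ → k)} (hZ : PolyClosed Z) (g : σ → MvPolynomial τ k) :
    PolyClosed {y : τ → k | (fun s => eval y (g s)) ∈ Z} := fun y hy => by
  obtain ⟨Φ, h, hΦ⟩ := hZ _ hy
  have hev : ∀ y : τ → k, eval y (bind₁ g Φ) = eval (fun s => eval y (g s)) Φ := fun y =>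
    eval₂Hom_bind₁ (RingHom.id k) y g Φ
  exact ⟨bind₁ g Φ, by rwa [hev], fun q hq => by rw [hev]; exact hΦ _ hq⟩

theorem PolyClosed.inter {σ : Type*} {Z Z' : Set (σ → k)} (hZ : PolyClosed Z) (hZ' : PolyClosed Z') :
    PolyClosed (Z ∩ Z') := fun p hp => by
  by_cases h : p ∈ Z
  · obtain ⟨Φ, h1, h2⟩ := hZ' p fun h' => hp ⟨h, h'⟩
    exact ⟨Φ, h1, fun q hq => h2 q hq.2⟩
  · obtain ⟨Φ, h1, h2⟩ := hZ p h
    exact ⟨Φ, h1, fun q hq => h2 q hq.1⟩

section proj

variable {σ : Type*} {n : ℕ}

/-- Separate the two groups of variables. -/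
noncomputable def nest : MvPolynomial (σ ⊕ Fin (n + 1)) k →ₐ[k] MvPolynomial (Fin (n + 1)) (MvPolynomial σ k) :=
  aeval (Sum.elim (fun s => C (X s)) X)

theorem eval_nest (c : σ → k) (v : Fin (n + 1) → k) (Φ : MvPolynomial (σ ⊕ Fin (n + 1)) k) :
    eval v (MvPolynomial.map (eval c) (nest Φ)) = eval (Sum.elim c v) Φ := by
  induction Φ using MvPolynomial.induction_on with
  | C a => simp [nest]
  | add p q hp hq => simp [map_add, hp, hq]
  | mul_X p a hp =>
    rcases a with a | a <;> simp [map_mul, hp] <;> simp [nest]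

theorem map_homogeneousComponent {R R' : Type*} [CommSemiring R] [CommSemiring R'] (f : R →+* R') {τ : Type*} (e : ℕ)
    (p : MvPolynomial τ R) : MvPolynomial.map f (homogeneousComponent e p) = homogeneousComponent e (MvPolynomial.map f p) := by
  classical
  ext s
  simp only [coeff_map, coeff_homogeneousComponent]
  split_ifs <;> simp

/-- The projection of a closed cone along projective space is closed. -/
theorem PolyClosed.proj [Infinite k] [IsAlgClosed k] [Finite σ] {Z : Set (σ ⊕ Fin (n + 1) → k)} (hZ : PolyClosed Z)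
    (hcone : ∀ (c : σ → k) (v : Fin (n + 1) → k) (a : k), a ≠ 0 → Sum.elim c v ∈ Z → Sum.elim c (fun q => a * v q) ∈ Z) :
    PolyClosed {c : σ → k | ∃ v, v ≠ 0 ∧ Sum.elim c v ∈ Z} := by
  classical
  intro c0 hc0
  let s : Set (MvPolynomial (σ ⊕ Fin (n + 1)) k) := {Φ | ∀ q ∈ Z, eval q Φ = 0}
  obtain ⟨T, hT, hTs⟩ := (Submodule.fg_span_iff_fg_span_finset_subset (R := MvPolynomial (σ ⊕ Fin (n + 1)) k) s).1
    (IsNoetherian.noetherian _)
  let E : (Σ Φ : T, Fin ((nest Φ.1).totalDegree + 1)) → MvPolynomial (Fin (n + 1)) (MvPolynomial σ k) :=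
    fun x => homogeneousComponent x.2.1 (nest x.1.1)
  have hE : ∀ c v, Sum.elim c v ∈ Z → ∀ x, eval v (MvPolynomial.map (eval c) (E x)) = 0 := by
    rintro c v hv ⟨Φ, e⟩
    let p := MvPolynomial.map (eval c) (nest Φ.1)
    let D := (nest Φ.1).totalDegree
    let P : Polynomial k := ∑ e : Fin (D + 1), Polynomial.monomial e.1 (eval v (homogeneousComponent e.1 p))
    have hp : p = ∑ e : Fin (D + 1), homogeneousComponent e.1 p := by
      conv_lhs => rw [show p = MvPolynomial.map (eval c) (nest Φ.1) from rfl, ← sum_homogeneousComponent (nest Φ.1), map_sum]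
      rw [← Fin.sum_univ_eq_sum_range fun e => MvPolynomial.map (eval c) (homogeneousComponent e (nest Φ.1))]
      exact Finset.sum_congr rfl fun e _ => map_homogeneousComponent _ _ _
    have hroot : ∀ a : k, a ≠ 0 → P.eval a = 0 := fun a ha => by
      have h1 := (hT Φ.2) _ (hcone c v a ha hv)
      rw [← eval_nest, show MvPolynomial.map (eval c) (nest Φ.1) = p from rfl, hp, map_sum] at h1
      rw [← h1, Polynomial.eval_finsetSum]
      refine Finset.sum_congr rfl fun e _ => ?_
      rw [Polynomial.eval_monomial, CIGen.eval_smul_of_homogeneous (homogeneousComponent_isHomogeneous _ _), mul_comm]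
    have hP : P = 0 := Polynomial.eq_zero_of_infinite_isRoot P ((Set.finite_singleton (0 : k)).infinite_compl.mono
      fun a ha => hroot a ha)
    have h2 := congrArg (fun Q : Polynomial k => Q.coeff e.1) hP
    simp only [P, Polynomial.finsetSum_coeff, Polynomial.coeff_monomial, Polynomial.coeff_zero] at h2
    rw [Finset.sum_eq_single e (fun b _ hb => if_neg fun h => hb (Fin.ext h)) (fun h => absurd (Finset.mem_univ _) h),
      if_pos rfl] at h2
    simp only [E, map_homogeneousComponent]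
    exact h2
  have hE' : ∀ c v, (∀ x, eval v (MvPolynomial.map (eval c) (E x)) = 0) → Sum.elim c v ∈ Z := by
    intro c v h
    by_contra hn
    obtain ⟨Φ, h1, h2⟩ := hZ _ hn
    refine h1 ?_
    have hle : Ideal.span (T : Set (MvPolynomial (σ ⊕ Fin (n + 1)) k)) ≤ RingHom.ker (eval (Sum.elim c v)) := by
      refine Ideal.span_le.2 fun Ψ hΨ => ?_
      show eval (Sum.elim c v) Ψ = 0
      rw [← eval_nest, ← sum_homogeneousComponent (nest Ψ), map_sum, map_sum]
      exact Finset.sum_eq_zero fun e he => h ⟨⟨Ψ, hΨ⟩, ⟨e, Finset.mem_range.1 he⟩⟩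
    have h3 : Φ ∈ Submodule.span (MvPolynomial (σ ⊕ Fin (n + 1)) k) s := Submodule.subset_span h2
    rw [hTs] at h3
    exact hle h3
  obtain ⟨Φ, h0, hΦ⟩ := CIGen.exists_open_no_zero E (fun x => x.2.1) (fun x => homogeneousComponent_isHomogeneous _ _) c0
    fun v hv => by_contra fun hne => hc0 ⟨v, hne, hE' c0 v hv⟩
  exact ⟨Φ, h0, fun c ⟨v, hv0, hv⟩ => by_contra fun h => hv0 (hΦ c h v (hE c v hv))⟩

end proj

end LefPenLib
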