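import Groth.Agent.LefPenLib.Rank
import Groth.Agent.OrdQuadLib.Line
import Mathlib

/-!
# Tangency conditions imposed by points on linear systems of forms
-/

set_option autoImplicit false
set_option linter.unusedSectionVars false
set_option linter.style.haveILetI false

universe u

open MvPolynomial Matrix CIGen

namespace LefPenLib

variable {k : Type u} [Field k] {r d : ℕ}

/-- Value and gradient. -/
noncomputable def jet (v : Fin (r + 1) → k) : MvPolynomial (Fin (r + 1)) k →ₗ[k] (Option (Fin (r + 1)) → k) where
  toFun p o := o.elim (eval v p) (grad v p)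
  map_add' p q := funext fun o => by cases o <;> simp [grad]
  map_smul' c p := funext fun o => by cases o <;> simp [grad]

/-- A gradient placed in the space of jets. -/
noncomputable def gjet : (Fin (r + 1) → k) →ₗ[k] (Option (Fin (r + 1)) → k) where
  toFun w o := o.elim 0 w
  map_add' p q := funext fun o => by cases o <;> simp
  map_smul' c p := funext fun o => by cases o <;> simp

/-- The product of a vector with a point. -/
noncomputable def dotV (v : Fin (r + 1) → k) : (Fin (r + 1) → k) →ₗ[k] k := ∑ q, v q • LinearMap.proj q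

theorem dotV_apply (v a : Fin (r + 1) → k) : dotV v a = ∑ q, v q * a q := by simp [dotV]

theorem eval_lin (v a : Fin (r + 1) → k) : eval v (CIGen.lin a) = dotV v a := by
  simp [CIGen.lin, dotV, mul_comm]

theorem dotV_ne_zero {v : Fin (r + 1) → k} {j : Fin (r + 1)} (hj : v j ≠ 0) : dotV v ≠ 0 := fun h => hj (by
  classical
  simpa [dotV_apply, Pi.single_apply] using LinearMap.congr_fun h (Pi.single j 1))

theorem finrank_ker_dotV {v : Fin (r + 1) → k} {j : Fin (r + 1)} (hj : v j ≠ 0) :
    Module.finrank k (LinearMap.ker (dotV v)) = r := by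
  have h1 := (dotV v).finrank_range_add_finrank_ker
  rw [LinearMap.range_eq_top.2 (LinearMap.surjective (dotV_ne_zero hj)), finrank_top, Module.finrank_self,
    Module.finrank_fin_fun] at h1
  omega

/-- An injective family inside a span bounds its dimension from below. -/
theorem le_finrank_of_injOn {V W : Type*} [AddCommGroup V] [Module k V] [AddCommGroup W] [Module k W]
    [FiniteDimensional k W] (U : Submodule k V) (Λ : V →ₗ[k] W) (P : Submodule k W) (hinj : ∀ a ∈ U, Λ a = 0 → a = 0)
    (h : ∀ a ∈ U, Λ a ∈ P) : Module.finrank k U ≤ Module.finrank k P := by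
  refine LinearMap.finrank_le_finrank_of_injective (f := (Λ.comp U.subtype).codRestrict P fun a => h a a.2) ?_
  rw [← LinearMap.ker_eq_bot, LinearMap.ker_eq_bot']
  exact fun a ha => Subtype.ext (hinj a a.2 (congrArg Subtype.val ha))

/-- Jets of multiples of linear forms by a form not vanishing at the point. -/
theorem jet_mul_lin {v : Fin (r + 1) → k} {p : MvPolynomial (Fin (r + 1)) k} (hp : eval v p = 1) (a : Fin (r + 1) → k) :
    jet v (p * CIGen.lin a) = fun o => o.elim (dotV v a) (dotV v a • grad v p + a) := by
  funext o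
  show o.elim (eval v (p * CIGen.lin a)) (grad v (p * CIGen.lin a)) = _
  rw [map_mul, hp, one_mul, eval_lin, grad_mul, grad_lin, hp, one_smul, eval_lin]

theorem jet_mul_lin_injective {v : Fin (r + 1) → k} {p : MvPolynomial (Fin (r + 1)) k} (hp : eval v p = 1)
    {a : Fin (r + 1) → k} (h : jet v (p * CIGen.lin a) = 0) : a = 0 := by
  rw [jet_mul_lin hp] at h
  have h0 : dotV v a = 0 := congrFun h none
  funext q
  simpa [h0] using congrFun h (some q)

/-- Multiplication of linear forms by a fixed form. -/
noncomputable def mulLin (p : MvPolynomial (Fin (r + 1)) k) : (Fin (r + 1) → k) →ₗ[k] MvPolynomial (Fin (r + 1)) k where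
  toFun a := p * CIGen.lin a
  map_add' a b := by simp [CIGen.lin, add_mul, Finset.sum_add_distrib, mul_add]
  map_smul' c a := by
    simp only [CIGen.lin, RingHom.id_apply, Pi.smul_apply, smul_eq_mul, map_mul, Finset.mul_sum, Finset.smul_sum,
      smul_eq_C_mul]
    exact Finset.sum_congr rfl fun q _ => by ring

/-- The span of jets of a family and of gradients. -/
noncomputable def jspan {ι κ : Type*} (v : Fin (r + 1) → k) (g : ι → MvPolynomial (Fin (r + 1)) k)
    (h : κ → MvPolynomial (Fin (r + 1)) k) : Submodule k (Option (Fin (r + 1)) → k) :=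
  Submodule.span k (Set.range (Sum.elim (fun x => jet v (g x)) fun x => gjet (grad v (h x))))

/-- Forms of a linear system tangent to a fixed set of equations somewhere on a small base fill a small set. -/
theorem incidence (p : Ideal (MvPolynomial (Fin (r + 1)) k)) (s : ℕ)
    (hp : ringKrullDim (MvPolynomial (Fin (r + 1)) k ⧸ p) ≤ (s : WithBot ℕ∞)) {ι κ : Type} [Fintype ι] [Fintype κ]
    (g : ι → MvPolynomial (Fin (r + 1)) k) (h : κ → MvPolynomial (Fin (r + 1)) k) (q : ℕ) (hq : s + Fintype.card κ < q) :
    ∃ Φ : MvPolynomial ι k, Φ ≠ 0 ∧ ∀ (v : Fin (r + 1) → k) (a : ι → k), p ≤ RingHom.ker (eval v) →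
      q ≤ Module.finrank k (jspan v g h) → eval v (∑ x, a x • g x) = 0 →
      grad v (∑ x, a x • g x) ∈ Submodule.span k (Set.range fun x => grad v (h x)) → eval a Φ = 0 := by
  classical
  obtain ⟨Φ, hΦ0, hΦ⟩ := exists_poly_of_rank p s hp (ρ := Option (Fin (r + 1)))
    (fun o x => Sum.elim (fun x => o.elim (g x) fun i => pderiv i (g x)) (fun x => o.elim 0 fun i => pderiv i (h x)) x) q hq
  refine ⟨Φ, hΦ0, fun v a hv hrk h0 hgr => ?_⟩
  obtain ⟨t, ht⟩ := (Submodule.mem_span_range_iff_exists_fun k).1 hgr
  refine hΦ v a (fun x => -t x) hv (le_of_le_of_eq hrk ?_) fun o => ?_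
  · rw [jspan]
    refine congrArg (fun f => Module.finrank k (Submodule.span k (Set.range f))) (funext fun x => funext fun o => ?_)
    rcases x with x | x <;> rcases o with _ | i <;> simp [jet, gjet, grad]
  · rw [Fintype.sum_sum_type]
    rcases o with _ | i
    · rw [map_sum] at h0
      simp only [Sum.elim_inl, Sum.elim_inr, Option.elim, map_zero, zero_mul, Finset.sum_const_zero, add_zero]
      rw [← h0]
      exact Finset.sum_congr rfl fun x _ => by rw [smul_eval, mul_comm]
    · have h1 := congrFun ht i
      simp only [Finset.sum_apply, Pi.smul_apply, smul_eq_mul, grad, map_sum, Derivation.map_smul, smul_eval] at h1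
      simp only [Sum.elim_inl, Sum.elim_inr, Option.elim, mul_neg, Finset.sum_neg_distrib]
      rw [← sub_eq_add_neg, sub_eq_zero]
      refine (Finset.sum_congr rfl fun x _ => mul_comm _ _).trans (h1.symm.trans ?_)
      exact Finset.sum_congr rfl fun x _ => mul_comm _ _

/-- Linearity of forms in their coefficients. -/
noncomputable def form1L : (Exp r d → k) →ₗ[k] MvPolynomial (Fin (r + 1)) k where
  toFun := form1
  map_add' a b := by simp [form1, Finset.sum_add_distrib]
  map_smul' c a := by simp [form1, Finset.smul_sum, smul_monomial]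

theorem sum_smul_form1 (π : (Exp r d → k) →ₗ[k] (Exp r d → k)) (a : Exp r d → k) :
    ∑ x, a x • form1 (π (Pi.single x 1)) = form1 (π a) := by
  classical
  show ∑ x, a x • (form1L.comp π) (Pi.single x 1) = (form1L.comp π) a
  conv_rhs => rw [pi_eq_sum_univ' a]
  rw [map_sum]
  exact Finset.sum_congr rfl fun x _ => by rw [map_smul]

/-- A fixed form is reached by the system. -/
theorem jet_mem_jspan {κ : Type*} (π : (Exp r d → k) →ₗ[k] (Exp r d → k)) (h : κ → MvPolynomial (Fin (r + 1)) k)
    (v : Fin (r + 1) → k) {c : Exp r d → k} (hc : π c = c) :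
    jet v (form1 c) ∈ jspan v (fun x => form1 (π (Pi.single x (1 : k)))) h := by
  rw [← hc, ← sum_smul_form1, map_sum]
  refine Submodule.sum_mem _ fun x _ => ?_
  rw [map_smul]
  exact Submodule.smul_mem _ _ (Submodule.subset_span ⟨Sum.inl x, rfl⟩)

theorem gjet_mem_jspan {ι κ : Type*} (g : ι → MvPolynomial (Fin (r + 1)) k) (h : κ → MvPolynomial (Fin (r + 1)) k)
    (v : Fin (r + 1) → k) {w : Fin (r + 1) → k} (hw : w ∈ Submodule.span k (Set.range fun x => grad v (h x))) :
    gjet w ∈ jspan v g h := by
  refine (Submodule.span_le.2 ?_ : _ ≤ (jspan v g h).comap gjet) hw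
  rintro _ ⟨x, rfl⟩
  exact Submodule.subset_span ⟨Sum.inr x, rfl⟩

end LefPenLib
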