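import Groth.Agent.CIGenLib.ConeDual
import Mathlib

/-!
# Families of linear systems of large rank sweep out a small set
-/

set_option autoImplicit false
set_option linter.unusedSectionVars false
set_option linter.style.haveILetI false

universe u

open MvPolynomial Matrix

namespace LefPenLib

variable {k : Type u} [Field k]

/-- Some square minor of a family of vectors spanning a large space is invertible. -/
theorem exists_minor {γ ρ : Type*} [Finite γ] [Fintype ρ] (col : γ → ρ → k) {q : ℕ}
    (h : q ≤ Module.finrank k (Submodule.span k (Set.range col))) :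
    ∃ (R : Fin q → ρ) (Cm : Fin q → γ), (Matrix.of fun a b => col (Cm b) (R a)).det ≠ 0 := by
  classical
  obtain ⟨f, hf, -, hli⟩ := Submodule.exists_fun_fin_finrank_span_eq k (Set.range col)
  choose C' hC' using hf
  let Cm : Fin q → γ := fun b => C' (Fin.castLE h b)
  have hliC : LinearIndependent k fun b => col (Cm b) := by
    have : (fun b => col (Cm b)) = f ∘ Fin.castLE h := funext fun b => hC' _
    rw [this]
    exact hli.comp _ (Fin.castLE_injective h)
  let N : Matrix ρ (Fin q) k := Matrix.of fun a b => col (Cm b) a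
  have hrk : Module.finrank k (Submodule.span k (Set.range N.row)) = q := by
    rw [← Matrix.rank_eq_finrank_span_row, Matrix.rank_eq_finrank_span_cols,
      show N.col = fun b => col (Cm b) from rfl, finrank_span_eq_card hliC, Fintype.card_fin]
  obtain ⟨g, hg, -, hliR⟩ := Submodule.exists_fun_fin_finrank_span_eq k (Set.range N.row)
  choose R' hR' using hg
  refine ⟨fun a => R' (Fin.cast hrk.symm a), Cm, ?_⟩
  refine ((Matrix.isUnit_iff_isUnit_det _).1 (Matrix.linearIndependent_rows_iff_isUnit.1 ?_)).ne_zero
  have : (Matrix.of fun a b => col (Cm b) (R' (Fin.cast hrk.symm a))).row = g ∘ Fin.cast hrk.symm := funext fun a => hR' _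
  rw [this]
  exact hliR.comp _ (Fin.cast_injective _)

section incidence

variable {τ : Type} [Fintype τ] (p : Ideal (MvPolynomial τ k))

/-- A large family of linear systems over a small base: only a small set of unknowns occurs in solutions. -/
theorem exists_poly_of_rank (s : ℕ) (hp : ringKrullDim (MvPolynomial τ k ⧸ p) ≤ (s : WithBot ℕ∞))
    {ι κ ρ : Type} [Fintype ι] [Fintype κ] [Fintype ρ] (M : ρ → ι ⊕ κ → MvPolynomial τ k) (q : ℕ)
    (hq : s + Fintype.card κ < q) :
    ∃ Φ : MvPolynomial ι k, Φ ≠ 0 ∧ ∀ (v : τ → k) (a : ι → k) (t : κ → k), p ≤ RingHom.ker (eval v) →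
      q ≤ Module.finrank k (Submodule.span k (Set.range fun x => fun b => eval v (M b x))) →
      (∀ b, ∑ x, eval v (M b x) * Sum.elim a t x = 0) → eval a Φ = 0 := by
  classical
  have hfin := p.finite_minimalPrimes_of_isNoetherianRing
  haveI := hfin.fintype
  let det (R : Fin q → ρ) (Cm : Fin q → ι ⊕ κ) : MvPolynomial τ k := (Matrix.of fun a b => M (R a) (Cm b)).det
  have key : ∀ x : p.minimalPrimes × (Fin q → ρ) × (Fin q → ι ⊕ κ), ∃ Φ : MvPolynomial ι k, Φ ≠ 0 ∧
      ∀ (v : τ → k) (a : ι → k) (t : κ → k), x.1.1 ≤ RingHom.ker (eval v) → eval v (det x.2.1 x.2.2) ≠ 0 →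
        (∀ b, ∑ y, eval v (M b y) * Sum.elim a t y = 0) → eval a Φ = 0 := by
    rintro ⟨⟨P, hP⟩, R, Cm⟩
    haveI : P.IsPrime := hP.1.1
    by_cases hdP : det R Cm ∈ P
    · exact ⟨1, one_ne_zero, fun v a t hv hne _ => absurd (hv hdP) hne⟩
    have hCm : Function.Injective Cm := fun b b' hbb => by
      by_contra hne
      exact hdP (by rw [show det R Cm = 0 from Matrix.det_zero_of_column_eq hne fun a => by simp [hbb]]; exact P.zero_mem)
    let A := MvPolynomial τ k ⧸ P
    let π : MvPolynomial τ k →ₐ[k] A := Ideal.Quotient.mkₐ k P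
    let Free := {x : ι ⊕ κ // x ∉ Set.range Cm}
    let B := MvPolynomial Free A
    let Nm : Matrix (Fin q) (Fin q) A := Matrix.of fun a b => π (M (R a) (Cm b))
    let rhs : Fin q → B := fun a => ∑ f : Free, C (π (M (R a) f.1)) * X f
    let sol : Fin q → B := -((Nm.map C).adjugate *ᵥ rhs)
    let u : ι ⊕ κ → B := fun x => if h : x ∈ Set.range Cm then sol h.choose else C (π (det R Cm)) * X ⟨x, h⟩
    have hdep : ¬ AlgebraicIndependent k (fun x : ι => u (Sum.inl x)) := fun h => by
      haveI : Algebra.FiniteType k B :=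
        Algebra.FiniteType.trans (inferInstance : Algebra.FiniteType k A) (inferInstance : Algebra.FiniteType A _)
      obtain ⟨s', hs, hst⟩ := WeilLib.dim_eq_trdeg k B (FractionRing B)
      have hA : ringKrullDim A ≤ (s : WithBot ℕ∞) :=
        le_trans (ringKrullDim_le_of_surjective (Ideal.Quotient.factor hP.1.2) (Ideal.Quotient.factor_surjective hP.1.2)) hp
      have hh : ringKrullDim B ≤ ((s + Fintype.card Free : ℕ) : WithBot ℕ∞) := by
        rw [MvPolynomial.ringKrullDim_of_isNoetherianRing, Nat.card_eq_fintype_card]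
        push_cast
        exact add_le_add hA le_rfl
      rw [hs] at hh
      have hs' : s' ≤ s + Fintype.card Free := by exact_mod_cast hh
      have h' := (h.map' (f := IsScalarTower.toAlgHom k B (FractionRing B))
        (by exact IsFractionRing.injective B (FractionRing B))).lift_cardinalMk_le_trdeg
      rw [hst] at h'
      simp only [Cardinal.mk_fintype, Cardinal.lift_natCast, Nat.cast_le] at h'
      have hfree : Fintype.card Free + q = Fintype.card ι + Fintype.card κ := by
        have h1 : Fintype.card Free = Fintype.card (ι ⊕ κ) - q := by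
          rw [Fintype.card_subtype_compl, ← Set.toFinset_card, Set.toFinset_range, Finset.card_image_of_injective _ hCm,
            Finset.card_univ, Fintype.card_fin]
        have h2 : q ≤ Fintype.card (ι ⊕ κ) := by simpa using Fintype.card_le_of_injective _ hCm
        rw [Fintype.card_sum] at h1 h2
        omega
      omega
    rw [algebraicIndependent_iff] at hdep
    push Not at hdep
    obtain ⟨Φ, hΦ, hΦ0⟩ := hdep
    refine ⟨Φ, hΦ0, fun v a t hv hne hsol => ?_⟩
    let ev : A →ₐ[k] k := Ideal.Quotient.liftₐ P (aeval v) fun x hx => by rw [aeval_eq_eval]; exact hv hx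
    have hev : ∀ f, ev (π f) = eval v f := fun f => by
      show aeval v f = _
      rw [aeval_eq_eval]
    set δ := eval v (det R Cm) with hδ
    let evB : B →ₐ[k] k := MvPolynomial.aevalTower ev fun f : Free => Sum.elim a t f.1 * δ⁻¹
    have hevX : ∀ f : Free, evB (X f) = Sum.elim a t f.1 * δ⁻¹ := fun f =>
      MvPolynomial.aevalTower_X ev (fun f : Free => Sum.elim a t f.1 * δ⁻¹) f
    have hevC : ∀ c : A, evB (C c) = ev c := fun c => MvPolynomial.aevalTower_C ev (fun f : Free => Sum.elim a t f.1 * δ⁻¹) c
    -- the free unknowns determine the others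
    have hev0 : ∀ a', evB (rhs a') = -(∑ b, eval v (M (R a') (Cm b)) * Sum.elim a t (Cm b)) * δ⁻¹ := fun a' => by
      simp only [rhs, map_sum, map_mul, hevC, hev, hevX, ← mul_assoc, ← Finset.sum_mul]
      congr 1
      have h1 := hsol (R a')
      rw [← Finset.sum_compl_add_sum (Finset.univ.image Cm), Finset.sum_image fun b _ b' _ h => hCm h] at h1
      rw [← eq_neg_of_add_eq_zero_left h1]
      refine (Finset.sum_subtype _ (fun x => ?_) fun x => eval v (M (R a') x) * Sum.elim a t x).symm
      simp [Set.mem_range]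
    have hNm : (Nm.map C).map evB = Matrix.of fun a' b => eval v (M (R a') (Cm b)) := by
      ext a' b
      simp [Nm, hevC, hev]
    have hNδ : (Matrix.of fun a' b => eval v (M (R a') (Cm b))).det = δ := by
      rw [hδ, RingHom.map_det]
      rfl
    have hsolv : ∀ b, evB (sol b) = Sum.elim a t (Cm b) := by
      intro b
      have hadj : ((Nm.map C).adjugate).map evB = (Matrix.of fun a' b => eval v (M (R a') (Cm b))).adjugate := by
        rw [← hNm]
        exact RingHom.map_adjugate (n := Fin q) (R := B) (S := k) (evB : B →+* k) (Nm.map C)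
      show evB (-((Nm.map C).adjugate *ᵥ rhs) b) = _
      rw [map_neg, show evB (((Nm.map C).adjugate *ᵥ rhs) b) = evB.toRingHom (((Nm.map C).adjugate *ᵥ rhs) b) from rfl,
        RingHom.map_mulVec]
      rw [show (((Nm.map C).adjugate).map evB.toRingHom) = ((Nm.map C).adjugate).map evB from rfl, hadj,
        show evB.toRingHom ∘ rhs = -(δ⁻¹ • ((Matrix.of fun a' b => eval v (M (R a') (Cm b))) *ᵥ fun b => Sum.elim a t (Cm b)))
          from funext fun a' => by
            show evB (rhs a') = _
            rw [hev0, Pi.neg_apply, Pi.smul_apply, smul_eq_mul, neg_mul, mul_comm]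
            rfl]
      rw [Matrix.mulVec_neg, Matrix.mulVec_smul, Matrix.mulVec_mulVec, Matrix.adjugate_mul, hNδ, Matrix.smul_mulVec,
        Matrix.one_mulVec]
      simp [inv_mul_cancel_left₀ hne]
    have hu : ∀ x, evB (u x) = Sum.elim a t x := fun x => by
      simp only [u]
      split_ifs with h
      · rw [hsolv, h.choose_spec]
      · rw [map_mul, hevC, hev, hevX, mul_left_comm, ← hδ, mul_inv_cancel₀ hne, mul_one]
    have h2 := congrArg evB hΦ
    rw [map_zero, comp_aeval_apply] at h2
    rw [← aeval_eq_eval, ← h2]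
    exact congrArg (fun w => aeval w Φ) (funext fun x => (hu (Sum.inl x)).symm)
  choose Φ hΦ0 hΦ using key
  refine ⟨∏ x, Φ x, Finset.prod_ne_zero_iff.2 fun x _ => hΦ0 x, fun v a t hv hrk hsol => ?_⟩
  obtain ⟨R, Cm, hdet⟩ := exists_minor (fun x => fun b => eval v (M b x)) hrk
  haveI : (RingHom.ker (eval v)).IsPrime := RingHom.ker_isPrime _
  obtain ⟨P, hP, hPv⟩ := Ideal.exists_minimalPrimes_le hv
  rw [map_prod]
  refine Finset.prod_eq_zero (Finset.mem_univ (⟨P, hP⟩, R, Cm)) (hΦ (⟨P, hP⟩, R, Cm) v a t hPv ?_ hsol)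
  rwa [RingHom.map_det]

end incidence

end LefPenLib
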