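import Groth.Agent.CIGenLib.ConeDual
import Mathlib

/-!
# Generic rigidity of dominant maps in characteristic zero
-/

set_option autoImplicit false
set_option linter.unusedSectionVars false
set_option linter.style.haveILetI false

universe u

open MvPolynomial

namespace LefPenLib

variable {k : Type u} [Field k]

theorem snd_aeval {σ : Type*} [Fintype σ] (x : σ → DualNumber k) (p : MvPolynomial σ k) :
    TrivSqZeroExt.fst (aeval x p) = eval (fun s => TrivSqZeroExt.fst (x s)) p ∧
      TrivSqZeroExt.snd (aeval x p) =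
        ∑ s, TrivSqZeroExt.snd (x s) * eval (fun s => TrivSqZeroExt.fst (x s)) (pderiv s p) := by
  classical
  induction p using MvPolynomial.induction_on with
  | C a => simp [TrivSqZeroExt.algebraMap_eq_inl]
  | add p q hp hq => simp [hp.1, hp.2, hq.1, hq.2, mul_add, Finset.sum_add_distrib]
  | mul_X p n hp =>
    refine ⟨by simp [hp.1], ?_⟩
    rw [map_mul, aeval_X, DualNumber.snd_mul, hp.1, hp.2]
    simp only [pderiv_mul, map_add, map_mul, eval_X, pderiv_X, Pi.single_apply, apply_ite (eval _), map_one, map_zero,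
      mul_add, Finset.sum_add_distrib, mul_ite, mul_one, mul_zero, Finset.sum_ite_eq, Finset.mem_univ, if_true,
      Finset.sum_mul, mul_assoc]
    ring

/-- A derivative of a polynomial in characteristic zero is nonzero and not divisible by it. -/
theorem exists_pderiv [CharZero k] {σ : Type*} {π : MvPolynomial σ k} (hπ : Prime π) :
    ∃ i, 0 < degreeOf i π ∧ ¬ π ∣ pderiv i π := by
  classical
  obtain ⟨e, he, hne⟩ : ∃ e ∈ π.support, e ≠ 0 := by
    by_contra hc
    push Not at hc
    have hC : π = C (coeff 0 π) := MvPolynomial.ext _ _ fun e => by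
      rw [coeff_C]
      split_ifs with h
      · rw [← h]
      · exact notMem_support_iff.1 fun hm => h (hc e hm).symm
    refine hπ.not_isUnit (hC ▸ (isUnit_iff_ne_zero.2 fun h0 => hπ.ne_zero ?_).map C)
    rw [hC, h0, map_zero]
  obtain ⟨i, hi⟩ := Finsupp.ne_iff.1 hne
  rw [Finsupp.coe_zero, Pi.zero_apply] at hi
  have hdeg : 0 < degreeOf i π := lt_of_lt_of_le (Nat.pos_of_ne_zero hi) (by
    rw [degreeOf_eq_sup]; exact Finset.le_sup (f := fun m => m i) he)
  have hle : ∀ m, coeff m (pderiv i π) ≠ 0 → m i + 1 ≤ degreeOf i π := fun m hm => by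
    rw [coeff_pderiv] at hm
    rw [degreeOf_eq_sup]
    have h := Finset.le_sup (f := fun m => m i) (mem_support_iff.2 (left_ne_zero_of_mul hm))
    simpa using h
  have hd0 : pderiv i π ≠ 0 := fun h => by
    have h1 := congrArg (coeff (e - Finsupp.single i 1)) h
    rw [coeff_pderiv, coeff_zero, tsub_add_cancel_of_le (Finsupp.single_le_iff.2 (Nat.one_le_iff_ne_zero.2 hi))] at h1
    rcases mul_eq_zero.1 h1 with h2 | h2
    · exact mem_support_iff.1 he h2
    · exact Nat.cast_add_one_ne_zero _ h2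
  refine ⟨i, hdeg, fun ⟨q, hq⟩ => ?_⟩
  have hlt : degreeOf i (pderiv i π) < degreeOf i π := by
    rw [degreeOf_lt_iff hdeg]
    exact fun m hm => hle m (mem_support_iff.1 hm)
  rw [hq, degreeOf_mul_eq hπ.ne_zero (fun h => hd0 (by rw [hq, h, mul_zero]))] at hlt
  omega

theorem not_dvd_rename {σ : Type*} {π : MvPolynomial σ k} {i : σ} (hi : 0 < degreeOf i π)
    {G : MvPolynomial {s : σ // s ≠ i} k} (hG : G ≠ 0) : ¬ π ∣ rename Subtype.val G := by
  classical
  rintro ⟨q, hq⟩
  have h0 : rename Subtype.val G ≠ 0 := fun h => hG (rename_injective _ Subtype.val_injective (h.trans (map_zero _).symm))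
  have hdeg : degreeOf i (rename Subtype.val G) = 0 := by
    rw [degreeOf_def, Multiset.count_eq_zero]
    intro hm
    have hv : i ∈ (rename Subtype.val G).vars := by rw [vars_def, Multiset.mem_toFinset]; exact hm
    obtain ⟨x, -, hx⟩ := Finset.mem_image.1 (vars_rename _ _ hv)
    exact x.2 hx
  rw [hq, degreeOf_mul_eq (fun h => h0 (by rw [hq, h, zero_mul])) (fun h => h0 (by rw [hq, h, mul_zero]))] at hdeg
  omega

variable {B : Type u} [CommRing B] [IsDomain B] [Algebra k B]

/-- Polynomial relations over the dual numbers. -/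
theorem fst_mul_eq_zero {τ : Type*} (ψ : τ → B) (h : B →ₐ[k] DualNumber k) (hψ : ∀ i, TrivSqZeroExt.snd (h (ψ i)) = 0)
    (P : Polynomial (MvPolynomial τ k)) (b : B) :
    TrivSqZeroExt.snd (h (P.eval₂ (aeval ψ).toRingHom b)) =
      TrivSqZeroExt.fst (h (P.derivative.eval₂ (aeval ψ).toRingHom b)) * TrivSqZeroExt.snd (h b) := by
  have hcoef : ∀ a : MvPolynomial τ k, TrivSqZeroExt.snd (h (aeval ψ a)) = 0 := fun a => by
    induction a using MvPolynomial.induction_on with
    | C c => simp [TrivSqZeroExt.algebraMap_eq_inl]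
    | add p q hp hq => simp [hp, hq]
    | mul_X p i hp => simp [map_mul, DualNumber.snd_mul, hp, hψ i]
  induction P using Polynomial.induction_on' with
  | add p q hp hq =>
    simp only [Polynomial.eval₂_add, map_add, TrivSqZeroExt.snd_add, TrivSqZeroExt.fst_add, Polynomial.derivative_add,
      hp, hq]
    ring
  | monomial n a =>
    simp only [Polynomial.eval₂_monomial, Polynomial.derivative_monomial, map_mul, map_pow, DualNumber.snd_mul,
      AlgHom.toRingHom_eq_coe, RingHom.coe_coe, hcoef, TrivSqZeroExt.snd_pow, TrivSqZeroExt.fst_mul,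
      TrivSqZeroExt.fst_pow, zero_mul, add_zero, map_natCast, smul_eq_mul, nsmul_eq_mul, TrivSqZeroExt.fst_natCast]
    rw [Nat.pred_eq_sub_one]
    ring

/-- Outside a small set a dominant map of varieties of the same dimension kills no tangent vector. -/
theorem exists_small [CharZero k] [Algebra.FiniteType k B] {σ : Type} [Fintype σ] {r : ℕ} (hσ : Fintype.card σ = r + 1)
    (hB : ringKrullDim B ≤ (r : WithBot ℕ∞)) (ψ : σ → B) {π : MvPolynomial σ k} (hπ : Prime π)
    (hker : ∀ G, aeval ψ G = 0 → π ∣ G) {ι : Type} [Fintype ι] (g : ι → B) :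
    ∃ a0 : MvPolynomial σ k, ¬ π ∣ a0 ∧ ∀ h : B →ₐ[k] DualNumber k, (∀ i, TrivSqZeroExt.snd (h (ψ i)) = 0) →
      (∃ q, TrivSqZeroExt.snd (h (g q)) ≠ 0) → eval (fun i => TrivSqZeroExt.fst (h (ψ i))) a0 = 0 := by
  classical
  obtain ⟨i0, hi0, -⟩ := exists_pderiv hπ
  let τ := {s : σ // s ≠ i0}
  have hτ : Fintype.card τ = r := by
    rw [Fintype.card_subtype_compl, Fintype.card_subtype_eq, hσ]; rfl
  let ψ' : τ → B := fun s => ψ s.1
  have hind : ∀ G : MvPolynomial τ k, aeval ψ' G = 0 → G = 0 := fun G hG => by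
    by_contra hne
    exact not_dvd_rename hi0 hne (hker _ (by rwa [aeval_rename]))
  -- every element is algebraic over the independent coordinates
  have halg : ∀ b : B, ∃ P : Polynomial (MvPolynomial τ k), P ≠ 0 ∧ P.eval₂ (aeval ψ').toRingHom b = 0 := by
    intro b
    let x : Option τ → B := fun o => o.elim b ψ'
    have hdep : ¬ AlgebraicIndependent k x := fun h => by
      obtain ⟨s', hs, hst⟩ := WeilLib.dim_eq_trdeg k B (FractionRing B)
      rw [hs] at hB
      have hs' : s' ≤ r := by exact_mod_cast hB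
      have h' := (h.map' (f := IsScalarTower.toAlgHom k B (FractionRing B))
        (by exact IsFractionRing.injective B (FractionRing B))).lift_cardinalMk_le_trdeg
      rw [hst] at h'
      simp only [Cardinal.mk_fintype, Cardinal.lift_natCast, Nat.cast_le, Fintype.card_option, hτ] at h'
      omega
    rw [algebraicIndependent_iff] at hdep
    push Not at hdep
    obtain ⟨G, hG, hG0⟩ := hdep
    refine ⟨optionEquivLeft k τ G, (map_ne_zero_iff _ (optionEquivLeft k τ).injective).2 hG0, ?_⟩
    have hcomp : (Polynomial.eval₂RingHom (aeval ψ').toRingHom b).comp (optionEquivLeft k τ).toAlgHom.toRingHom =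
        (aeval x).toRingHom := by
      refine MvPolynomial.ringHom_ext (fun c => ?_) fun o => ?_
      · simp [optionEquivLeft_C]
      · cases o <;> simp [optionEquivLeft_X_none, optionEquivLeft_X_some, x]
    exact (RingHom.congr_fun hcomp G).trans hG
  -- a minimal relation
  have hmin : ∀ b : B, ∃ P : Polynomial (MvPolynomial τ k), P.eval₂ (aeval ψ').toRingHom b = 0 ∧
      P.derivative.eval₂ (aeval ψ').toRingHom b ≠ 0 ∧ (b ≠ 0 → P.coeff 0 ≠ 0) := by
    intro b
    have hex : ∃ n, ∃ P : Polynomial (MvPolynomial τ k), P ≠ 0 ∧ P.eval₂ (aeval ψ').toRingHom b = 0 ∧ P.natDegree = n := by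
      obtain ⟨P, h1, h2⟩ := halg b
      exact ⟨_, P, h1, h2, rfl⟩
    obtain ⟨P, hP0, hPb, hPn⟩ := Nat.find_spec hex
    have hlow : ∀ Q : Polynomial (MvPolynomial τ k), Q.natDegree < P.natDegree → Q.eval₂ (aeval ψ').toRingHom b = 0 → Q = 0 :=
      fun Q hQ hQb => by
        by_contra hne
        exact Nat.find_min hex (hPn ▸ hQ) ⟨Q, hne, hQb, rfl⟩
    have hpos : 0 < P.natDegree := Nat.pos_of_ne_zero fun h0 => by
      rw [Polynomial.eq_C_of_natDegree_eq_zero h0] at hPb hP0
      rw [Polynomial.eval₂_C] at hPb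
      exact hP0 (by rw [hind _ hPb, map_zero])
    refine ⟨P, hPb, fun h => ?_, fun hb h0 => ?_⟩
    · exact hpos.ne' (Polynomial.derivative_eq_zero.1
        (hlow _ (Polynomial.natDegree_derivative_lt hpos.ne') h))
    · have e : P = Polynomial.X * P.divX := by
        conv_lhs => rw [← Polynomial.X_mul_divX_add P, h0, map_zero, add_zero]
      rw [e, Polynomial.eval₂_mul, Polynomial.eval₂_X] at hPb
      have h1 := hlow P.divX (by rw [Polynomial.natDegree_divX_eq_natDegree_tsub_one]; omega)
        ((mul_eq_zero.1 hPb).resolve_left hb)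
      exact hP0 (by rw [e, h1, mul_zero])
  choose P hP hP' hPc using fun q => hmin (g q)
  let Δ : B := ∏ q, (P q).derivative.eval₂ (aeval ψ').toRingHom (g q)
  have hΔ : Δ ≠ 0 := Finset.prod_ne_zero_iff.2 fun q _ => hP' q
  obtain ⟨Q, hQ, -, hQc⟩ := hmin Δ
  refine ⟨rename Subtype.val (Q.coeff 0), not_dvd_rename hi0 (hQc hΔ), fun h hh ⟨q, hq⟩ => ?_⟩
  have h0 := fst_mul_eq_zero ψ' h (fun s => hh s.1) (P q) (g q)
  rw [hP q, map_zero, TrivSqZeroExt.snd_zero] at h0
  have hΔ0 : TrivSqZeroExt.fst (h Δ) = 0 := by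
    have hz := (mul_eq_zero.1 h0.symm).resolve_right hq
    rw [show Δ = (P q).derivative.eval₂ (aeval ψ').toRingHom (g q) *
      ∏ x ∈ Finset.univ.erase q, (P x).derivative.eval₂ (aeval ψ').toRingHom (g x) from
        (Finset.mul_prod_erase Finset.univ _ (Finset.mem_univ q)).symm, map_mul, TrivSqZeroExt.fst_mul, hz, zero_mul]
  have hQ' := congrArg (fun x => TrivSqZeroExt.fst (h x)) hQ
  conv_lhs at hQ' => rw [← Polynomial.X_mul_divX_add Q]
  simp only [Polynomial.eval₂_add, Polynomial.eval₂_mul, Polynomial.eval₂_X, Polynomial.eval₂_C, map_add, map_mul,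
    TrivSqZeroExt.fst_add, TrivSqZeroExt.fst_mul, hΔ0, zero_mul, zero_add, map_zero, TrivSqZeroExt.fst_zero] at hQ'
  rw [eval_rename, ← hQ']
  show eval (fun s : τ => TrivSqZeroExt.fst (h (ψ s.1))) (Q.coeff 0) = TrivSqZeroExt.fst (h (aeval ψ' (Q.coeff 0)))
  rw [show h (aeval ψ' (Q.coeff 0)) = aeval (fun s => h (ψ' s)) (Q.coeff 0) from comp_aeval_apply ψ' h _]
  exact (snd_aeval _ _).1.symm

end LefPenLib
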