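import Groth.Agent.LefPenLib.Unique
import Groth.Agent.LefPenLib.Rigid
import Mathlib

/-!
# In characteristic zero a dual hypersurface has nondegenerate tangency
-/

set_option autoImplicit false
set_option linter.unusedSectionVars false
set_option linter.style.haveILetI false

universe u

open MvPolynomial IsLocalRing CIGen OrdQuad

namespace LefPenLib

variable {k : Type u} [Field k] [IsAlgClosed k] {r N cc : ℕ}

/-- The exponent of a variable. -/
noncomputable def sl (q : Fin (r + 1)) : Exp r 1 := ⟨Finsupp.single q 1, by simp⟩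

theorem sl_bijective : Function.Bijective (sl (r := r)) := by
  classical
  refine ⟨fun p q h => Finsupp.single_left_injective one_ne_zero (Subtype.ext_iff.1 h), fun e => ?_⟩
  obtain ⟨q, hq⟩ : ∃ q, e.1 q ≠ 0 := by
    by_contra hc
    push Not at hc
    have h0 : e.1 = 0 := Finsupp.ext fun q => hc q
    have := e.2
    rw [h0, map_zero] at this
    exact zero_ne_one this
  refine ⟨q, Subtype.ext ?_⟩
  have h : e.1 - Finsupp.single q 1 + Finsupp.single q 1 = e.1 :=
    tsub_add_cancel_of_le (Finsupp.single_le_iff.2 (Nat.one_le_iff_ne_zero.2 hq))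
  have hd := congrArg Finsupp.degree h
  rw [map_add, Finsupp.degree_single, e.2] at hd
  have h3 : e.1 - Finsupp.single q 1 = 0 :=
    (Finsupp.degree_eq_zero_iff _).1 (by omega : (e.1 - Finsupp.single q 1).degree = 0)
  rw [h3, zero_add] at h
  exact h

/-- Coordinates of linear forms. -/
noncomputable def e1 : Fin (r + 1) ≃ Exp r 1 := Equiv.ofBijective sl sl_bijective

theorem form1_eq_lin (c : Exp r 1 → k) : form1 c = CIGen.lin fun q => c (e1 q) := by
  rw [form1, CIGen.lin, ← Equiv.sum_comp e1]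
  refine Finset.sum_congr rfl fun q _ => ?_
  rw [show (e1 q).1 = Finsupp.single q 1 from rfl, C_mul_X_eq_monomial]

theorem pderiv_comm {σ : Type*} (a b : σ) (p : MvPolynomial σ k) : pderiv a (pderiv b p) = pderiv b (pderiv a p) := by
  classical
  induction p using MvPolynomial.induction_on with
  | C c => simp
  | add p q hp hq => simp [hp, hq]
  | mul_X p n hp =>
    simp only [pderiv_mul, map_add, hp, pderiv_X, Pi.single_apply]
    rcases eq_or_ne n a with rfl | ha <;> rcases eq_or_ne n b with rfl | hb <;> simp_all <;> ring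

/-- Second derivatives are symmetric. -/
theorem hess_eq (v w : Fin (r + 1) → k) (G : MvPolynomial (Fin (r + 1)) k) (q : Fin (r + 1)) :
    hess v w G q = ∑ p, w p * eval v (pderiv p (pderiv q G)) := by
  rw [hess, coeff_one_line]

theorem hess_symm (v w u : Fin (r + 1) → k) (G : MvPolynomial (Fin (r + 1)) k) :
    ∑ q, u q * hess v w G q = ∑ q, w q * hess v u G q := by
  simp only [hess_eq, Finset.mul_sum]
  rw [Finset.sum_comm]
  exact Finset.sum_congr rfl fun p _ => Finset.sum_congr rfl fun q _ => by rw [pderiv_comm]; ring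

theorem hess_self (v : Fin (r + 1) → k) {G : MvPolynomial (Fin (r + 1)) k} {e : ℕ} (hG : G.IsHomogeneous e) (q : Fin (r + 1)) :
    hess v v G q = ((e - 1 : ℕ) : k) * eval v (pderiv q G) := by
  rw [hess_eq, ← euler (hG.pderiv (i := q)) v]
  rfl

/-- The combination of equations. -/
noncomputable def comb (F : Fin N → MvPolynomial (Fin (r + 1)) k) (S : Fin cc → Fin N) (t : Fin cc → k) :
    MvPolynomial (Fin (r + 1)) k := ∑ b, C (t b) * F (S b)

theorem hess_comb (F : Fin N → MvPolynomial (Fin (r + 1)) k) (S : Fin cc → Fin N) (t : Fin cc → k)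
    (v w : Fin (r + 1) → k) (q : Fin (r + 1)) : hess v w (comb F S t) q = ∑ b, t b * hess v w (F (S b)) q := by
  simp only [hess_eq, comb, map_sum, pderiv_C_mul, map_mul, eval_C, Finset.mul_sum]
  rw [Finset.sum_comm]
  exact Finset.sum_congr rfl fun b _ => Finset.sum_congr rfl fun p _ => by ring

theorem sum_hess_comb_self (F : Fin N → MvPolynomial (Fin (r + 1)) k) {e : Fin N → ℕ} (he : ∀ l, (F l).IsHomogeneous (e l))
    (S : Fin cc → Fin N) (t : Fin cc → k) (v u : Fin (r + 1) → k) (hu : ∀ l, ∑ q, u q * grad v (F l) q = 0) :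
    ∑ q, u q * hess v v (comb F S t) q = 0 := by
  simp only [hess_comb, Finset.mul_sum]
  rw [Finset.sum_comm]
  refine Finset.sum_eq_zero fun b _ => ?_
  have h : ∀ q, u q * (t b * hess v v (F (S b)) q) = t b * ((e (S b) - 1 : ℕ) : k) * (u q * grad v (F (S b)) q) := fun q => by
    rw [hess_self v (he (S b)), grad]; ring
  rw [Finset.sum_congr rfl fun q _ => h q, ← Finset.mul_sum, hu, mul_zero]

/-- Vectors killed by the tangent space lie in the span of the gradients. -/
theorem mem_span_of_dot {F : Fin N → MvPolynomial (Fin (r + 1)) k} {e : Fin N → ℕ} (he : ∀ l, (F l).IsHomogeneous (e l))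
    {v : Fin (r + 1) → k} (hv : Zero F v) {j : Fin (r + 1)} (hj : v j = 1) {x : Fin (r + 1) → k} (hxv : dotV v x = 0)
    (hx : ∀ u, TanV F j v u → dotV u x = 0) : x ∈ Submodule.span k (Set.range fun l => grad v (F l)) := by
  classical
  by_contra hnot
  obtain ⟨f, hf, hker⟩ := (Submodule.span k (Set.range fun l => grad v (F l))).exists_le_ker_of_notMem hnot
  let a : Fin (r + 1) → k := fun q => f (Pi.single q 1)
  have hrep : ∀ y, f y = dotV a y := fun y => by
    conv_lhs => rw [pi_eq_sum_univ' y]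
    simp [dotV_apply, a, map_sum, mul_comm]
  let u : Fin (r + 1) → k := fun q => a q - a j * v q
  have hu : TanV F j v u := by
    refine ⟨by simp [u, hj], fun l => ?_⟩
    have h1 : dotV a (grad v (F l)) = 0 := by rw [← hrep]; exact hker (Submodule.subset_span ⟨l, rfl⟩)
    rw [dotV_apply] at h1
    simp only [u, sub_mul, Finset.sum_sub_distrib, mul_assoc, ← Finset.mul_sum, h1, euler (he l) v, hv l, mul_zero, sub_zero]
  have h2 := hx u hu
  rw [dotV_apply] at h2 hxv
  simp only [u, sub_mul, Finset.sum_sub_distrib, mul_assoc, ← Finset.mul_sum, hxv, mul_zero, sub_zero] at h2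
  exact hf (by rw [hrep, dotV_apply]; exact h2)

variable {K : Type u} [Field K] [Algebra k K] {ξ : Fin (r + 1) → K}
  {F : Fin N → MvPolynomial (Fin (r + 1)) k} {e : Fin N → ℕ}

set_option maxHeartbeats 1000000 in
/-- What one piece of the conormal cone gives. -/
theorem exists_piece [CharZero k] (hF : IsEqn ξ F e) {n : ℕ} {j : Fin (r + 1)}
    (hdim : ringKrullDim (MvPolynomial (Fin (r + 1)) k ⧸ chartIdeal (k := k) ξ j) = (n : WithBot ℕ∞)) (hξ : ξ j ≠ 0)
    (S : Fin cc → Fin N) (hn : n + cc = r)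
    {π : MvPolynomial (Exp r 1) k} (hπ : Prime π) (hπD : ∀ c, Bad' F (form1 c) → eval c π = 0) :
    ∃ a0 : MvPolynomial (Exp r 1) k, ¬ π ∣ a0 ∧ ∀ (v : Fin (r + 1) → k) (t : Fin cc → k) (c : Exp r 1 → k),
      Zero F v → v j = 1 → (∑ b, t b • grad v (F (S b))) = (fun q => c (e1 q)) →
      Submodule.span k (Set.range fun b => grad v (F (S b))) = Submodule.span k (Set.range fun l => grad v (F l)) →
      (∀ w, w ≠ 0 → TanV F j v w → (∀ u, TanV F j v u → ∑ q, u q * hess v w (comb F S t) q = 0) → eval c a0 = 0) ∧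
      ∀ (w : Fin (r + 1) → k) (t' : Fin cc → k), TanV F j v w →
        ∑ q, (∑ b, t' b * grad v (F (S b)) q + hess v w (comb F S t) q) * eval c (pderiv (e1 q) π) = 0 := by
  classical
  let A := MvPolynomial (Fin (r + 1)) k ⧸ chartIdeal (k := k) ξ j
  haveI : IsDomain A := Ideal.Quotient.isDomain _
  let B := MvPolynomial (Fin cc) A
  let mk : MvPolynomial (Fin (r + 1)) k →ₐ[k] A := Ideal.Quotient.mkₐ k _
  let ψ : Exp r 1 → B := fun s => ∑ b, X b * C (mk (pderiv (e1.symm s) (F (S b))))
  let g : Fin (r + 1) → B := fun q => C (mk (X q))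
  haveI : Algebra.FiniteType k B :=
    Algebra.FiniteType.trans (inferInstance : Algebra.FiniteType k A) (inferInstance : Algebra.FiniteType A _)
  haveI : IsNoetherianRing A := inferInstance
  have hB : ringKrullDim B ≤ (r : WithBot ℕ∞) := by
    rw [MvPolynomial.ringKrullDim_of_isNoetherianRing, hdim, Nat.card_eq_fintype_card, Fintype.card_fin]
    exact le_of_eq (by exact_mod_cast hn)
  -- tangent vectors of the piece
  have hhom : ∀ (v w : Fin (r + 1) → k) (t t' : Fin cc → k), Zero F v → v j = 1 → TanV F j v w →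
      ∃ h : B →ₐ[k] DualNumber k, (∀ q, TrivSqZeroExt.snd (h (g q)) = w q) ∧
        (∀ s, TrivSqZeroExt.fst (h (ψ s)) = ∑ b, t b * grad v (F (S b)) (e1.symm s)) ∧
        ∀ s, TrivSqZeroExt.snd (h (ψ s)) =
          ∑ b, t' b * grad v (F (S b)) (e1.symm s) + hess v w (comb F S t) (e1.symm s) := by
    intro v w t t' hv hvj hw
    let x : Fin (r + 1) → DualNumber k := fun q => TrivSqZeroExt.inl (v q) + TrivSqZeroExt.inr (w q)
    have hx : ∀ p : MvPolynomial (Fin (r + 1)) k, TrivSqZeroExt.fst (aeval x p) = eval v p ∧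
        TrivSqZeroExt.snd (aeval x p) = ∑ q, w q * eval v (pderiv q p) := fun p => by
      have h := snd_aeval x p
      simpa [x] using h
    have hkill : ∀ p ∈ chartIdeal ξ j, aeval x p = 0 := fun p hp => by
      obtain ⟨h0, hg⟩ := chart_grad hF hv hvj hp
      refine TrivSqZeroExt.ext ((hx p).1.trans h0) ((hx p).2.trans ?_)
      obtain ⟨a, ha, b, hb, hab⟩ := Submodule.mem_sup.1 hg
      obtain ⟨c, rfl⟩ := Submodule.mem_span_singleton.1 hb
      have ha0 : dotV w a = 0 := (Submodule.span_le.2 (by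
        rintro _ ⟨l, rfl⟩
        show dotV w (grad v (F l)) = 0
        rw [dotV_apply]; exact hw.2 l) : _ ≤ LinearMap.ker (dotV w)) ha
      show ∑ q, w q * grad v p q = 0
      rw [← dotV_apply, ← hab, map_add, ha0, zero_add, map_smul, dotV_apply]
      simp [Pi.single_apply, hw.1]
    let hA : A →ₐ[k] DualNumber k := Ideal.Quotient.liftₐ _ (aeval x) hkill
    have hAmk : ∀ p, hA (mk p) = aeval x p := fun p => rfl
    let y : Fin cc → DualNumber k := fun b => TrivSqZeroExt.inl (t b) + TrivSqZeroExt.inr (t' b)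
    have hTX : ∀ b, MvPolynomial.aevalTower hA y (X b) = y b := fun b => aevalTower_X hA y b
    have hTC : ∀ p, MvPolynomial.aevalTower hA y (C (mk p)) = aeval x p := fun p => (aevalTower_C hA y (mk p)).trans (hAmk p)
    refine ⟨MvPolynomial.aevalTower hA y, fun q => ?_, fun s => ?_, fun s => ?_⟩
    · show TrivSqZeroExt.snd (MvPolynomial.aevalTower hA y (C (mk (X q)))) = _
      rw [aevalTower_C, hAmk, aeval_X]
      simp [x]
    · simp only [ψ, map_sum, map_mul, hTC, hTX, TrivSqZeroExt.fst_sum, TrivSqZeroExt.fst_mul,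
        (hx _).1, grad]
      exact Finset.sum_congr rfl fun b _ => by simp [y]
    · rw [hess_comb]
      simp only [ψ, map_sum, map_mul, hTC, hTX, TrivSqZeroExt.snd_sum, DualNumber.snd_mul,
        (hx _).1, (hx _).2, grad, hess_eq]
      simp only [y, TrivSqZeroExt.fst_add, TrivSqZeroExt.snd_add, TrivSqZeroExt.fst_inl, TrivSqZeroExt.fst_inr,
        TrivSqZeroExt.snd_inl, TrivSqZeroExt.snd_inr, add_zero, zero_add]
      rw [Finset.sum_add_distrib, add_comm]
  -- the piece maps into the tangent forms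
  have hπψ : aeval ψ π = 0 := by
    let τ := Fin (r + 1) ⊕ Fin cc
    let z : τ → B := Sum.elim g X
    let cψ : Exp r 1 → MvPolynomial τ k := fun s => ∑ b, X (Sum.inr b) * rename Sum.inl (pderiv (e1.symm s) (F (S b)))
    have hz : ∀ p : MvPolynomial (Fin (r + 1)) k, aeval z (rename Sum.inl p) = C (mk p) := fun p => by
      rw [aeval_rename, show z ∘ Sum.inl = g from rfl]
      exact (comp_aeval_apply (fun q => mk (X q)) (IsScalarTower.toAlgHom k A B) p).symm.trans
        (congrArg (IsScalarTower.toAlgHom k A B)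
          (AlgHom.congr_fun (algHom_ext fun q => by simp : aeval (fun q => mk (X q)) = mk) p))
    have h := OrdQuad.aeval_eq_zero_of_forall (τ := τ) (fun p : chartIdeal (k := k) ξ j => rename Sum.inl p.1)
      (bind₁ cψ π) (fun y hy => ?_) z (fun p => by
        rw [hz, show mk p.1 = 0 from Ideal.Quotient.eq_zero_iff_mem.2 p.2, map_zero])
    · rw [aeval_bind₁] at h
      rw [← h]
      congr 1
      refine algHom_ext fun s => ?_
      simp only [aeval_X, cψ, map_sum, map_mul, hz, ψ]
      rfl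
    · have hle : chartIdeal ξ j ≤ RingHom.ker (eval (y ∘ Sum.inl)) := fun p hp => by
        rw [RingHom.mem_ker]
        simpa [eval_rename] using hy ⟨p, hp⟩
      have hz' := zero_of_chartIdeal_le hF hle
      have hvj : y (Sum.inl j) = 1 := by
        simpa [RingHom.mem_ker, sub_eq_zero] using hle (X_sub_one_mem ξ hξ)
      rw [show eval y (bind₁ cψ π) = eval (fun s => eval y (cψ s)) π from eval₂Hom_bind₁ (RingHom.id k) _ _ π]
      refine hπD _ ⟨y ∘ Sum.inl, fun h0 => one_ne_zero (α := k) (hvj.symm.trans (congrFun h0 j)), hz', ?_, ?_⟩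
      · rw [form1_eq_lin, eval_lin, dotV_apply]
        simp only [cψ, map_sum, map_mul, eval_X, eval_rename, Equiv.symm_apply_apply, Finset.mul_sum]
        rw [Finset.sum_comm]
        refine Finset.sum_eq_zero fun b _ => ?_
        have := euler (hF.homog (S b)) (y ∘ Sum.inl)
        rw [hz' (S b), mul_zero] at this
        simp only [mul_left_comm _ (y (Sum.inr b)), ← Finset.mul_sum]
        exact mul_eq_zero_of_right _ this
      · rw [form1_eq_lin, grad_lin]
        refine (Submodule.mem_span_range_iff_exists_fun k).2 ⟨∑ b, Pi.single (S b) (y (Sum.inr b)), ?_⟩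
        rw [sum_spread]
        funext q
        simp [cψ, grad, eval_rename]
  -- values at the points
  have hval : ∀ (v w : Fin (r + 1) → k) (t : Fin cc → k) (c : Exp r 1 → k) (h : B →ₐ[k] DualNumber k),
      (∑ b, t b • grad v (F (S b))) = (fun q => c (e1 q)) →
      (∀ s, TrivSqZeroExt.fst (h (ψ s)) = ∑ b, t b * grad v (F (S b)) (e1.symm s)) →
      (fun s => TrivSqZeroExt.fst (h (ψ s))) = c := fun v w t c h hc h1 => funext fun s => by
    rw [h1, show c s = c (e1 (e1.symm s)) by rw [Equiv.apply_symm_apply], ← congrFun hc (e1.symm s)]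
    simp
  have hder : ∀ (v : Fin (r + 1) → k) (t : Fin cc → k) (c : Exp r 1 → k), Zero F v → v j = 1 →
      (∑ b, t b • grad v (F (S b))) = (fun q => c (e1 q)) → ∀ (w : Fin (r + 1) → k) (t' : Fin cc → k), TanV F j v w →
        ∑ q, (∑ b, t' b * grad v (F (S b)) q + hess v w (comb F S t) q) * eval c (pderiv (e1 q) π) = 0 := by
    intro v t c hv hvj hc w t' hw
    obtain ⟨h, -, h1, h2⟩ := hhom v w t t' hv hvj hw
    have h0 := congrArg (fun x => TrivSqZeroExt.snd (h x)) hπψ
    simp only [map_zero, TrivSqZeroExt.snd_zero] at h0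
    rw [show h (aeval ψ π) = aeval (fun s => h (ψ s)) π from comp_aeval_apply ψ h π, (snd_aeval _ _).2,
      hval v w t c h hc h1] at h0
    rw [← h0, ← Equiv.sum_comp e1]
    exact Finset.sum_congr rfl fun q _ => by rw [h2, Equiv.symm_apply_apply]
  by_cases hker : ∀ G, aeval ψ G = 0 → π ∣ G
  · have hσ : Fintype.card (Exp r 1) = r + 1 := by rw [← Fintype.card_congr e1, Fintype.card_fin]
    obtain ⟨a0, ha0, ha⟩ := exists_small hσ hB ψ hπ hker g
    refine ⟨a0, ha0, fun v t c hv hvj hc hS => ⟨fun w hw0 hw hu => ?_, hder v t c hv hvj hc⟩⟩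
    have hx : (fun q => hess v w (comb F S t) q) ∈ Submodule.span k (Set.range fun b => grad v (F (S b))) := by
      rw [hS]
      refine mem_span_of_dot hF.homog hv hvj ?_ fun u hu' => by rw [dotV_apply]; exact hu u hu'
      rw [dotV_apply, hess_symm]
      exact sum_hess_comb_self F hF.homog S t v w hw.2
    obtain ⟨s, hs⟩ := (Submodule.mem_span_range_iff_exists_fun k).1 hx
    obtain ⟨h, hg, h1, h2⟩ := hhom v w t (fun b => -s b) hv hvj hw
    obtain ⟨q, hq⟩ := Function.ne_iff.1 hw0
    rw [← hval v w t c h hc h1]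
    refine ha h (fun i => ?_) ⟨q, by rwa [hg]⟩
    rw [h2, ← congrFun hs (e1.symm i)]
    simp
  · push Not at hker
    obtain ⟨G, hG, hGπ⟩ := hker
    refine ⟨G, hGπ, fun v t c hv hvj hc _ => ⟨fun w _ hw _ => ?_, hder v t c hv hvj hc⟩⟩
    obtain ⟨h, -, h1, -⟩ := hhom v w t 0 hv hvj hw
    rw [← hval v w t c h hc h1]
    have h0 := congrArg (fun x => TrivSqZeroExt.fst (h x)) hG
    simp only [map_zero, TrivSqZeroExt.fst_zero] at h0
    rwa [show h (aeval ψ G) = aeval (fun s => h (ψ s)) G from comp_aeval_apply ψ h G, (snd_aeval _ _).1] at h0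

set_option maxHeartbeats 1000000 in
/-- In characteristic zero, if the tangent hyperplanes fill a hypersurface, some hyperplane is tangent at one point
only, with nondegenerate quadratic part there. -/
theorem exists_one_point_charZero [CharZero k] (hF : IsEqn ξ F e) {m : ℕ}
    (hdim : ∀ j, ξ j ≠ 0 → ringKrullDim (MvPolynomial (Fin (r + 1)) k ⧸ chartIdeal (k := k) ξ j) = ((m + 1 : ℕ) : WithBot ℕ∞))
    (hreg : ∀ j, ξ j ≠ 0 → ∀ (M : Ideal (MvPolynomial (Fin (r + 1)) k ⧸ chartIdeal (k := k) ξ j)) [M.IsMaximal],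
      IsRegularLocalRing (Localization.AtPrime M))
    (hWr : ∀ v, Zero F v → v ≠ 0 → Module.finrank k (Submodule.span k (Set.range fun l => grad v (F l))) + (m + 1) = r)
    {π : MvPolynomial (Exp r 1) k} (hπ : Prime π) (hπD : ∀ c, Bad' F (form1 c) ↔ eval c π = 0) :
    ∃ (c : Exp r 1 → k) (j0 : Fin (r + 1)) (v0 : Fin (r + 1) → k), v0 j0 = 1 ∧ BadAt F v0 (form1 c) ∧
      Nondeg F j0 v0 (form1 c) ∧ aeval ξ (form1 c) ≠ 0 ∧
      ∀ v, v ≠ 0 → BadAt F v (form1 c) → v j0 ≠ 0 ∧ (v j0 = 1 → v = v0) := by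
  classical
  have hne : ∀ {v : Fin (r + 1) → k} {a : Fin (r + 1)}, v a = 1 → v ≠ 0 := fun {v a} hv h =>
    one_ne_zero (α := k) (by rw [← hv, h]; rfl)
  let cd := r - (m + 1)
  have hpiece : ∀ x : {j // ξ j ≠ 0} × (Fin cd → Fin N), ∃ a0 : MvPolynomial (Exp r 1) k, ¬ π ∣ a0 ∧
      (m + 1 + cd = r → ∀ (v : Fin (r + 1) → k) (t : Fin cd → k) (c : Exp r 1 → k), Zero F v → v x.1.1 = 1 →
      (∑ b, t b • grad v (F (x.2 b))) = (fun q => c (e1 q)) →
      Submodule.span k (Set.range fun b => grad v (F (x.2 b))) = Submodule.span k (Set.range fun l => grad v (F l)) →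
      (∀ w, w ≠ 0 → TanV F x.1.1 v w → (∀ u, TanV F x.1.1 v u → ∑ q, u q * hess v w (comb F x.2 t) q = 0) → eval c a0 = 0) ∧
      ∀ (w : Fin (r + 1) → k) (t' : Fin cd → k), TanV F x.1.1 v w →
        ∑ q, (∑ b, t' b * grad v (F (x.2 b)) q + hess v w (comb F x.2 t) q) * eval c (pderiv (e1 q) π) = 0) := fun x => by
    by_cases h : m + 1 + cd = r
    · obtain ⟨a0, h1, h2⟩ := exists_piece hF (hdim _ x.1.2) x.1.2 x.2 h hπ fun c hc => (hπD c).1 hc
      exact ⟨a0, h1, fun _ => h2⟩
    · exact ⟨1, fun h1 => hπ.not_isUnit (isUnit_of_dvd_one h1), fun h' => absurd h' h⟩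
  choose a0 ha0 ha using hpiece
  obtain ⟨i0, -, hi0⟩ := exists_pderiv hπ
  obtain ⟨c, hc0, hc1⟩ : ∃ c : Exp r 1 → k, eval c π = 0 ∧ eval c (pderiv i0 π * ∏ x, a0 x) ≠ 0 := by
    by_contra hall
    push Not at hall
    have hmem : pderiv i0 π * ∏ x, a0 x ∈ (Ideal.span {π}).radical := by
      rw [← vanishingIdeal_zeroLocus_eq_radical (K := k), mem_vanishingIdeal_iff]
      intro c hc
      rw [mem_zeroLocus_iff] at hc
      have h := hc π (Ideal.mem_span_singleton_self π)
      rw [aeval_eq_eval] at h ⊢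
      exact hall c h
    haveI : (Ideal.span {π}).IsPrime := (Ideal.span_singleton_prime hπ.ne_zero).2 hπ
    rw [Ideal.IsPrime.radical inferInstance, Ideal.mem_span_singleton] at hmem
    rcases hπ.dvd_or_dvd hmem with h | h
    · exact hi0 h
    · obtain ⟨x, -, hx⟩ := hπ.exists_mem_finset_dvd h
      exact ha0 x hx
  simp only [map_mul, map_prod, mul_ne_zero_iff, Finset.prod_ne_zero_iff, Finset.mem_univ, forall_true_left] at hc1
  obtain ⟨hci, hca⟩ := hc1
  let y : Fin (r + 1) → k := fun q => eval c (pderiv (e1 q) π)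
  -- every tangency point is the gradient of the equation
  have hpt : ∀ v j, v j = 1 → BadAt F v (form1 c) →
      Nondeg F j v (form1 c) ∧ y j ≠ 0 ∧ v = fun q => (y j)⁻¹ * y q := by
    intro v j hvj hb
    have hξ := ne_zero_of_zero hF hb.1 (j := j) (by rw [hvj]; exact one_ne_zero)
    have hWv : Module.finrank k (Submodule.span k (Set.range fun l => grad v (F l))) = cd := by
      have := hWr v hb.1 (hne hvj); omega
    have hcd : m + 1 + cd = r := by have := hWr v hb.1 (hne hvj); omega
    obtain ⟨S, P, -, hS⟩ := exists_base_data (j := j) hF hb.1 hvj hWv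
    have hgr := hb.2.2
    rw [form1_eq_lin, grad_lin, ← hS] at hgr
    obtain ⟨t, ht⟩ := (Submodule.mem_span_range_iff_exists_fun k).1 hgr
    obtain ⟨hdeg, hder⟩ := ha (⟨j, hξ⟩, S) hcd v t c hb.1 hvj ht hS
    have hnd : ∀ w, TanV F j v w → (∀ u, TanV F j v u → ∑ q, u q * hess v w (comb F S t) q = 0) → w = 0 :=
      fun w hw hu => by_contra fun hw0 => hca _ (hdeg w hw0 hw hu)
    have htan0 : TanV F j v 0 := ⟨rfl, fun l => by simp⟩
    have hyW : ∀ l, ∑ q, y q * grad v (F l) q = 0 := fun l => by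
      have hy : ∀ b, dotV y (grad v (F (S b))) = 0 := fun b => by
        have h := hder 0 (Pi.single b 1) htan0
        simp only [hess_eq, Pi.zero_apply, zero_mul, Finset.sum_const_zero, add_zero, Pi.single_apply, ite_mul, one_mul,
          Finset.sum_ite_eq', Finset.mem_univ, if_true] at h
        rw [dotV_apply, ← h]
        exact Finset.sum_congr rfl fun q _ => mul_comm _ _
      rw [← dotV_apply]
      exact (Submodule.span_le.2 (by rintro _ ⟨b, rfl⟩; exact hy b) : _ ≤ LinearMap.ker (dotV y))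
        (hS.symm ▸ (show grad v (F l) ∈ Submodule.span k (Set.range fun l => grad v (F l)) from
          Submodule.subset_span ⟨l, rfl⟩))
    let y' : Fin (r + 1) → k := fun q => y q - y j * v q
    have hy' : TanV F j v y' := ⟨by simp [y', hvj], fun l => by
      simp only [y', sub_mul, Finset.sum_sub_distrib, mul_assoc, ← Finset.mul_sum, hyW l, euler (hF.homog l) v, hb.1 l,
        mul_zero, sub_zero]⟩
    have hy'0 : y' = 0 := hnd y' hy' fun u hu => by
      have h1 := hder u 0 hu
      simp only [Pi.zero_apply, zero_mul, Finset.sum_const_zero, zero_add] at h1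
      rw [Finset.sum_congr rfl fun q _ => mul_comm _ _, hess_symm] at h1
      have h2 := sum_hess_comb_self F hF.homog S t v u hu.2
      have hlin : ∀ q, hess v y' (comb F S t) q = hess v y (comb F S t) q - y j * hess v v (comb F S t) q := fun q => by
        simp only [hess_eq, y', sub_mul, Finset.sum_sub_distrib, Finset.mul_sum, mul_assoc]
      simp only [hlin, mul_sub, Finset.sum_sub_distrib, mul_left_comm _ (y j), ← Finset.mul_sum, h2, mul_zero, sub_zero]
      exact h1
    have hyv : ∀ q, y q = y j * v q := fun q => sub_eq_zero.1 (congrFun hy'0 q)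
    have hyj : y j ≠ 0 := fun h0 => hci (by
      have := hyv (e1.symm i0)
      rw [h0, zero_mul] at this
      simpa [y] using this)
    refine ⟨?_, hyj, funext fun q => by rw [hyv q, inv_mul_cancel_left₀ hyj]⟩
    refine nondeg_of_one hF hreg hb.1 hvj (hWr v hb.1 (hne hvj)) hb.2.1 (t₀ := ∑ b, Pi.single (S b) (t b)) ?_ ?_
    · rw [sum_spread, ht, form1_eq_lin, grad_lin]
    · rintro ⟨w, hw0, hw, -, hu⟩
      refine hw0 (hnd w hw fun u hu' => ?_)
      have h1 := hu u hu'
      have hh : ∀ q, hess v w (form1 c - ∑ l, C ((∑ b, (Pi.single (S b) (t b) : Fin N → k)) l) * F l) q =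
          - hess v w (comb F S t) q := fun q => by
        have hsum : ∑ l, C ((∑ b, (Pi.single (S b) (t b) : Fin N → k)) l) * F l = comb F S t := by
          simp only [← smul_eq_C_mul, sum_spread, comb]
        rw [hsum]
        simp only [hess_eq, map_sub, form1_eq_lin, mul_sub, Finset.sum_sub_distrib]
        rw [Finset.sum_eq_zero, zero_sub]
        intro p _
        simp [CIGen.lin, pderiv_X, Pi.single_apply, apply_ite (pderiv p)]
      simp only [hh, mul_neg, Finset.sum_neg_distrib, neg_eq_zero] at h1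
      exact h1
  obtain ⟨j0, v0, hj0, hb0⟩ := exists_normalized hF (isHomogeneous_form1 c) ((hπD c).2 hc0)
  obtain ⟨hnd0, hy0, hv0⟩ := hpt v0 j0 hj0 hb0
  have hu : ∀ v, v ≠ 0 → BadAt F v (form1 c) → v j0 ≠ 0 ∧ (v j0 = 1 → v = v0) := by
    intro v hv hb
    obtain ⟨j, hj⟩ := Function.ne_iff.1 hv
    obtain ⟨-, hyj, hw⟩ := hpt (fun q => (v j)⁻¹ * v q) j (inv_mul_cancel₀ hj)
      (badAt_smul hF (isHomogeneous_form1 c) (inv_ne_zero hj) hb)
    have hv' : v = fun q => v j * (y j)⁻¹ * y q := funext fun q => by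
      rw [mul_assoc, ← congrFun hw q, mul_inv_cancel_left₀ hj]
    refine ⟨by rw [hv']; exact mul_ne_zero (mul_ne_zero hj (inv_ne_zero hyj)) hy0, fun h1 => ?_⟩
    rw [hv'] at h1 ⊢
    rw [hv0]
    funext q
    rw [show v j * (y j)⁻¹ = (y j0)⁻¹ from eq_inv_of_mul_eq_one_left h1]
  refine ⟨c, j0, v0, hj0, hb0, hnd0, fun hvan => ?_, hu⟩
  have hξ := ne_zero_of_zero hF hb0.1 (j := j0) (by rw [hj0]; exact one_ne_zero)
  exact false_of_unique_point hF (Nat.succ_ne_zero m) (hdim j0 hξ) hξ
    fun v hv hvj => (hu v (hne hvj) (badAt_of_vanish hF (isHomogeneous_form1 c) hvan hv)).2 hvj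

end LefPenLib
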