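import Groth.Agent.LefPenLib.Main
import Groth.Agent.LefPenLib.Biduality
import Mathlib

/-!
# In characteristic zero every embedding is a Lefschetz embedding
-/

set_option autoImplicit false
set_option linter.unusedSectionVars false
set_option linter.style.haveILetI false

universe u

open CategoryTheory AlgebraicGeometry TopologicalSpace MvPolynomial CIGen OrdQuad

namespace LefPenLib

variable {k : Type u} [Field k] [IsAlgClosed k] [CharZero k] {Y : Scheme.{u}} (r m : ℕ) (i : Y ⟶ CohB1.ProjSpace r k)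
  [IsClosedImmersion i] [IrreducibleSpace Y] [SmoothOfRelativeDimension (m + 1) (i ≫ CohB1.ProjSpace.toSpec r k)]

theorem isLefschetzEmb_one : LefPen.IsLefschetzEmb k (m + 1) i 1 := by
  classical
  obtain ⟨K, _, _, ξ, N, F, e, hM⟩ := exists_isModel (m + 1) i
  have hF := hM.eqn
  obtain ⟨Φd, hΦd0, hΦd⟩ := bad_proper (d := 1) hF one_pos (m + 1) hM.dim (finrank_eq m i hM)
  obtain ⟨a, ha⟩ : ∃ a : Exp r 1 → k, eval a Φd ≠ 0 := by
    by_contra hall
    push Not at hall
    exact hΦd0 (MvPolynomial.funext fun a => by rw [hall a, map_zero])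
  obtain ⟨Φ, hΦ0, hΦ⟩ := exists_good_partner m i hM le_rfl (fun h => ha (hΦd a h)) fun π hπ hπP _ => by
    by_cases hP : ∀ q : MvPolynomial (Exp r 1) k, (∀ c, Bad' F (form1 c) → eval c q = 0) → π ∣ q
    swap
    · push Not at hP
      obtain ⟨q, hq, hnd⟩ := hP
      exact ⟨q, hnd, fun c hc => hq c hc.1⟩
    have hD : ∀ c, eval c π = 0 → Bad' F (form1 c) := fun c hc => by
      by_contra hn
      obtain ⟨q, h0, hq⟩ := D_closed m i hM c hn
      obtain ⟨q', rfl⟩ := hP q hq
      exact h0 (by rw [map_mul, hc, zero_mul])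
    obtain ⟨c, j0, v0, hj0, hb0, hnd, hnv, hu⟩ :=
      exists_one_point_charZero hF hM.dim hM.reg (finrank_eq m i hM) hπ fun c => ⟨hπP c, hD c⟩
    have hone : LefPen.OneOrdQuad k (m + 1) i (formOf c) := oneOrdQuad_of_point i m hM (formOf c) hj0 hb0 hnv hnd hu
    have hbad : Bad' F (form1 c) := ⟨v0, fun h => one_ne_zero (α := k) (by rw [← hj0, h]; rfl), hb0⟩
    obtain ⟨f, hf, hf0, hf'⟩ := oneOrdQuad_open m i (formOf c) hone
    obtain ⟨g, hg⟩ := exists_eval_of_isPolyFun hf
    refine ⟨g, fun ⟨q, hq⟩ => ?_, fun x hx => by_contra fun h => hx.2 (hf' _ (not_transversal_of_bad m i hM _ hx.1) ?_)⟩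
    · rw [hg, coords_formOf, hq, map_mul, hπP c hbad, zero_mul] at hf0
      exact hf0 rfl
    · rw [hg, coords_formOf]; exact h
  obtain ⟨b, hb⟩ : ∃ b : Exp r 1 → k, eval b Φ ≠ 0 := by
    by_contra hall
    push Not at hall
    exact hΦ0 (MvPolynomial.funext fun b => by rw [hall b, map_zero])
  obtain ⟨Θ, hΘ0, hΘ⟩ := exists_good_open m i hM (hΦ b hb)
  refine ⟨_, isPolyFun_pair Θ, ⟨(formOf a, formOf b), ?_⟩, fun w hw => pencil_of_good m i hM (hΘ _ hw)⟩
  simpa [pcoords, coords_formOf] using hΘ0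

end LefPenLib
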