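import Groth.Agent.LefPenLib.Main
import Mathlib

/-!
# The discriminant of forms
-/

set_option autoImplicit false
set_option linter.unusedSectionVars false
set_option linter.style.haveILetI false

universe u

open CategoryTheory AlgebraicGeometry TopologicalSpace MvPolynomial CIGen OrdQuad

namespace LefPenLib

variable {k : Type u} [Field k]

theorem trdeg_fractionRing (A : Type u) [CommRing A] [IsDomain A] [Algebra k A] :
    Algebra.trdeg k (FractionRing A) = Algebra.trdeg k A := by
  haveI : FaithfulSMul k A := (faithfulSMul_iff_algebraMap_injective _ _).2 (algebraMap k A).injective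
  haveI : Algebra.IsAlgebraic A (FractionRing A) := IsLocalization.isAlgebraic _ (nonZeroDivisors A)
  rw [← trdeg_add_eq k A (A := FractionRing A), trdeg_eq_zero (R := A) (A := FractionRing A), add_zero]

/-- An algebra that is algebraic over the image has at most the dimension of the source. -/
theorem dim_le_of_algebraic {R₀ B : Type u} [CommRing R₀] [CommRing B] [IsDomain B] [Algebra k R₀] [Algebra k B]
    [Algebra.FiniteType k R₀] [Algebra.FiniteType k B] (φ : R₀ →ₐ[k] B) (halg : Algebra.IsAlgebraic φ.range B)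
    {I : Ideal R₀} (hI : I ≤ RingHom.ker φ) : ringKrullDim B ≤ ringKrullDim (R₀ ⧸ I) := by
  haveI : Algebra.FiniteType k φ.range :=
    Algebra.FiniteType.of_surjective φ.rangeRestrict φ.rangeRestrict_surjective
  haveI : FaithfulSMul k φ.range := (faithfulSMul_iff_algebraMap_injective _ _).2 (algebraMap k φ.range).injective
  haveI : FaithfulSMul φ.range B := (faithfulSMul_iff_algebraMap_injective _ _).2 Subtype.val_injective
  obtain ⟨s, hs, hs'⟩ := WeilLib.dim_eq_trdeg k B (FractionRing B)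
  obtain ⟨t, ht, ht'⟩ := WeilLib.dim_eq_trdeg k φ.range (FractionRing φ.range)
  rw [trdeg_fractionRing, ← trdeg_add_eq k φ.range (A := B), trdeg_eq_zero (R := φ.range) (A := B), add_zero] at hs'
  rw [trdeg_fractionRing, hs', Nat.cast_inj] at ht'
  subst ht'
  rw [hs, ← ht]
  refine ringKrullDim_le_of_surjective (Ideal.Quotient.lift I φ.rangeRestrict.toRingHom fun x hx => Subtype.ext (hI hx))
    (Ideal.Quotient.lift_surjective_of_surjective _ _ φ.rangeRestrict_surjective)

/-- The same, from an equation over the source for each generator. -/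
theorem dim_le_of_generators {R₀ B : Type u} [CommRing R₀] [CommRing B] [IsDomain B] [Algebra k R₀] [Algebra k B]
    [Algebra.FiniteType k R₀] [Algebra.FiniteType k B] (φ : R₀ →ₐ[k] B) (S : Set B) (hS : ∀ x, x ∈ Algebra.adjoin k S)
    (hQ : ∀ b ∈ S, ∃ Q : Polynomial R₀, Q.map φ.toRingHom ≠ 0 ∧ Q.eval₂ φ.toRingHom b = 0)
    {I : Ideal R₀} (hI : I ≤ RingHom.ker φ) : ringKrullDim B ≤ ringKrullDim (R₀ ⧸ I) := by
  refine dim_le_of_algebraic φ ⟨fun x => ?_⟩ hI
  refine (Algebra.adjoin_le (fun b hb => ?_) : Algebra.adjoin k S ≤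
    (Subalgebra.algebraicClosure φ.range B).restrictScalars k) (hS x)
  obtain ⟨Q, hQ0, hQb⟩ := hQ b hb
  refine ⟨Q.map φ.rangeRestrict.toRingHom, fun h => hQ0 ?_, ?_⟩
  · have := congrArg (Polynomial.map φ.range.val.toRingHom) h
    rwa [Polynomial.map_map, Polynomial.map_zero] at this
  · rw [Polynomial.aeval_def, Polynomial.eval₂_map]
    exact hQb

/-- A nonzero prime of codimension at most one is principal. -/
theorem exists_generator [IsAlgClosed k] {σ : Type} [Fintype σ] {P : Ideal (MvPolynomial σ k)} [P.IsPrime] (hP : P ≠ ⊥)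
    (hdim : ((Fintype.card σ : ℕ) : WithBot ℕ∞) ≤ ringKrullDim (MvPolynomial σ k ⧸ P) + 1) :
    ∃ π : MvPolynomial σ k, Prime π ∧ P = Ideal.span {π} := by
  obtain ⟨Ψ, hΨ, hΨ0⟩ := Submodule.exists_mem_ne_zero_of_ne_bot hP
  obtain ⟨c0, hc0⟩ : ∃ c0, eval c0 Ψ ≠ 0 := by
    by_contra h
    push Not at h
    exact hΨ0 (MvPolynomial.funext fun c => by rw [h c, map_zero])
  obtain ⟨π, hπ, hπP, -⟩ := exists_prime_factor hΨ hc0
  refine ⟨π, hπ, le_antisymm (fun g hg => ?_) ((Ideal.span_singleton_le_iff_mem _).2 hπP)⟩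
  by_contra hgn
  haveI : (Ideal.span {π}).IsPrime := (Ideal.span_singleton_prime hπ.ne_zero).2 hπ
  haveI : IsDomain (MvPolynomial σ k ⧸ Ideal.span {π}) := Ideal.Quotient.isDomain _
  haveI : IsDomain (MvPolynomial σ k ⧸ P) := Ideal.Quotient.isDomain _
  have h1 := ringKrullDim_succ_le_of_surjective (Ideal.Quotient.mk (Ideal.span {π})) Ideal.Quotient.mk_surjective
    (mem_nonZeroDivisors_of_ne_zero hπ.ne_zero) (Ideal.Quotient.eq_zero_iff_mem.2 (Ideal.mem_span_singleton_self π))
  have h2 := ringKrullDim_succ_le_of_surjective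
    (Ideal.Quotient.factor ((Ideal.span_singleton_le_iff_mem _).2 hπP : Ideal.span {π} ≤ P))
    (Ideal.Quotient.factor_surjective _)
    (mem_nonZeroDivisors_of_ne_zero (fun h => hgn (Ideal.Quotient.eq_zero_iff_mem.1 h) :
      Ideal.Quotient.mk (Ideal.span {π}) g ≠ 0)) (by rwa [Ideal.Quotient.factor_mk, Ideal.Quotient.eq_zero_iff_mem])
  obtain ⟨s, hs, -⟩ := WeilLib.dim_eq_trdeg k (MvPolynomial σ k ⧸ P) (FractionRing (MvPolynomial σ k ⧸ P))
  rw [MvPolynomial.ringKrullDim_of_isNoetherianRing, ringKrullDim_eq_zero_of_field, zero_add,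
    Nat.card_eq_fintype_card] at h1
  have h3 : ringKrullDim (MvPolynomial σ k ⧸ P) + 1 + 1 ≤ (Fintype.card σ : WithBot ℕ∞) :=
    le_trans (add_le_add h2 le_rfl) h1
  have h4 := h3.trans hdim
  rw [hs] at h4
  have : s + 1 + 1 ≤ s + 1 := by exact_mod_cast h4
  omega

theorem exists_linear_eq {R B : Type u} [CommRing R] [CommRing B] [Algebra k R] [Algebra k B] [Nontrivial B]
    (φ : R →ₐ[k] B) (x : R) : ∃ Q : Polynomial R, Q.map φ.toRingHom ≠ 0 ∧ Q.eval₂ φ.toRingHom (φ x) = 0 :=
  ⟨Polynomial.X - Polynomial.C x,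
    by rw [Polynomial.map_sub, Polynomial.map_X, Polynomial.map_C]; exact Polynomial.X_sub_C_ne_zero _,
    by rw [Polynomial.eval₂_sub, Polynomial.eval₂_X, Polynomial.eval₂_C]; exact sub_self _⟩

/-- An injective algebra map is an equivalence onto its range. -/
theorem exists_equiv {A : Type*} [CommSemiring A] [Algebra k A] {ι : Type*} (θ : A →ₐ[k] (ι → k)) (S : Subalgebra k (ι → k))
    (h : θ.range = S) (hinj : Function.Injective θ) : ∃ e : A ≃ₐ[k] S, ∀ a i, (e a).1 i = θ a i :=
  ⟨(AlgEquiv.ofInjective θ hinj).trans (Subalgebra.equivOfEq _ _ h), fun _ _ => rfl⟩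

variable [IsAlgClosed k] {r d N : ℕ} {K : Type u} [Field K] [Algebra k K] {ξ : Fin (r + 1) → K}
  {F : Fin N → MvPolynomial (Fin (r + 1)) k} {e : Fin N → ℕ}

/-- The equations of a singular point of a form with coefficients `some`, on the hyperplane `X q = t X j`. -/
noncomputable def singEqs (j q : Fin (r + 1)) :
    Option (Option (Fin (r + 1))) → MvPolynomial (Fin (r + 1)) (MvPolynomial (Option (Exp r d)) k)
  | none => MvPolynomial.X q - C (MvPolynomial.X none) * MvPolynomial.X j
  | some none => ∑ s : Exp r d, monomial s.1 (MvPolynomial.X (some s))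
  | some (some a) => pderiv a (∑ s : Exp r d, monomial s.1 (MvPolynomial.X (some s)))

theorem singEqs_iff (hF0 : ∀ l, F l = 0) (j q : Fin (r + 1)) (b : Option (Exp r d) → k) (v : Fin (r + 1) → k) :
    (∀ o, eval v (MvPolynomial.map (eval b) (singEqs j q o)) = 0) ↔
      v q = b none * v j ∧ BadAt F v (form1 fun s => b (some s)) := by
  have hspan : Submodule.span k (Set.range fun l => grad v (F l)) = ⊥ := by
    rw [Submodule.span_eq_bot]
    rintro _ ⟨l, rfl⟩
    simp [hF0 l, grad_zero]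
  have hu : MvPolynomial.map (eval b) (∑ s : Exp r d, monomial s.1 (MvPolynomial.X (some s))) =
      form1 fun s => b (some s) := by
    simp [form1, map_monomial]
  simp only [Option.forall, singEqs, BadAt, hspan, Submodule.mem_bot, _root_.funext_iff, grad, Pi.zero_apply, ← pderiv_map, hu]
  simp +contextual [sub_eq_zero, CIGen.Zero, hF0]

set_option maxHeartbeats 2000000 in
/-- The vanishing ideal of the singular forms is principal. -/
theorem exists_disc (hF : IsEqn ξ F e) (hF0 : ∀ l, F l = 0) {n : ℕ} (hn : n = r)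
    (hdim : ∀ j, ξ j ≠ 0 → ringKrullDim (MvPolynomial (Fin (r + 1)) k ⧸ chartIdeal (k := k) ξ j) = (n : WithBot ℕ∞))
    (hd : 0 < d) {c0 : Exp r d → k} {j : Fin (r + 1)} {v0 : Fin (r + 1) → k} (hj : v0 j = 1)
    (hb : BadAt F v0 (form1 c0)) (hu : ∀ v, v ≠ 0 → BadAt F v (form1 c0) → v j ≠ 0 ∧ (v j = 1 → v = v0))
    (P : Ideal (MvPolynomial (Exp r d) k)) [P.IsPrime] (hP0 : P ≠ ⊥)
    (hP : ∀ Φ ∈ P, ∀ c, Bad' F (form1 c) → eval c Φ = 0) :
    ∃ π : MvPolynomial (Exp r d) k, Prime π ∧ P = Ideal.span {π} := by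
  classical
  have hξ : ξ j ≠ 0 := ne_zero_of_zero hF hb.1 (by rw [hj]; exact one_ne_zero)
  haveI : IsDomain (MvPolynomial (Fin (r + 1)) k ⧸ chartIdeal (k := k) ξ j) := Ideal.Quotient.isDomain _
  haveI : IsNoetherianRing (MvPolynomial (Fin (r + 1)) k ⧸ chartIdeal (k := k) ξ j) := inferInstance
  let emb : Fin 0 → Fin N := Fin.elim0
  haveI : Algebra.FiniteType k (MvPolynomial (Fin 0 ⊕ Free (r := r) hd j) (MvPolynomial (Fin (r + 1)) k ⧸ chartIdeal (k := k) ξ j)) :=
    Algebra.FiniteType.trans (inferInstance : Algebra.FiniteType k (MvPolynomial (Fin (r + 1)) k ⧸ chartIdeal (k := k) ξ j))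
      (inferInstance : Algebra.FiniteType (MvPolynomial (Fin (r + 1)) k ⧸ chartIdeal (k := k) ξ j) _)
  let φ : MvPolynomial (Exp r d) k →ₐ[k]
      MvPolynomial (Fin 0 ⊕ Free (r := r) hd j) (MvPolynomial (Fin (r + 1)) k ⧸ chartIdeal (k := k) ξ j) :=
    aeval (psi ξ F hd j emb)
  have hspan : ∀ v, Submodule.span k (Set.range fun l => grad v (F l)) = ⊥ := fun v => by
    rw [Submodule.span_eq_bot]
    rintro _ ⟨l, rfl⟩
    simp [hF0 l, grad_zero]
  have hcoef : ∀ (v : Fin (r + 1) → k) (hv : Zero F v) (hvj : v j = 1) (t : Fin 0 ⊕ Free hd j → k), ∃ c,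
      BadAt F v (form1 c) ∧ ∀ Φ, evPt hF hv hvj t (φ Φ) = eval c Φ := fun v hv hvj t => by
    let a : Exp r d → k := fun s => if h : s ∈ Set.range (slot hd j) then 0 else t (Sum.inr ⟨s, h⟩)
    have ht : t = Sum.elim (fun l => t (Sum.inl l)) fun x : Free hd j => a x.1 := funext fun x => by
      rcases x with l | ⟨s, hs⟩
      · rfl
      · show t (Sum.inr ⟨s, hs⟩) = a s
        simp only [a]
        rw [dif_neg hs]
    refine ⟨_, pcoef_bad hF hd emb hv hvj (fun l => t (Sum.inl l)) a, fun Φ => ?_⟩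
    rw [ht]
    exact evPt_aeval hF hd hv hvj emb _ a (fun q => dif_pos ⟨q, rfl⟩) Φ
  have hker : P ≤ RingHom.ker φ := fun Φ hΦ => RingHom.mem_ker.2 (eq_zero_of_evPt hF hξ _ fun v hv hvj t => by
    obtain ⟨c, hc, he⟩ := hcoef v hv hvj t
    rw [he, hP Φ hΦ c ⟨v, fun h0 => one_ne_zero (α := k) (by rw [← hvj, h0]; rfl), hc⟩])
  -- the coordinates are algebraic over the image
  have hX : ∀ q, ∃ Q : Polynomial (MvPolynomial (Exp r d) k), Q.map φ.toRingHom ≠ 0 ∧
      Q.eval₂ φ.toRingHom (C (Ideal.Quotient.mk (chartIdeal (k := k) ξ j) (MvPolynomial.X q))) = 0 := fun q => by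
    let b0 : Option (Exp r d) → k := fun o => o.elim (v0 q + 1) c0
    obtain ⟨Φ, hΦ0, hΦ⟩ := exists_open_no_zero (singEqs (k := k) (d := d) j q)
      (fun o => o.elim 1 fun a => a.elim d fun _ => d - 1) (fun o => by
        have h : (∑ s : Exp r d, monomial s.1 (MvPolynomial.X (some s) : MvPolynomial (Option (Exp r d)) k)).IsHomogeneous d :=
          IsHomogeneous.sum _ _ _ fun s _ => isHomogeneous_monomial _ s.2
        match o with
        | none => exact (isHomogeneous_X _ q).sub (by simpa using (isHomogeneous_C _ (MvPolynomial.X none)).mul (isHomogeneous_X _ j))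
        | some none => exact h
        | some (some a) => exact h.pderiv)
      b0 fun v hv => by
        obtain ⟨hq, hbad⟩ := (singEqs_iff hF0 j q b0 v).1 hv
        by_contra hv0
        obtain ⟨hvj, huniq⟩ := hu v hv0 hbad
        have he := congrFun ((hu (fun i => (v j)⁻¹ * v i) (fun h => one_ne_zero (α := k) (by
          rw [← inv_mul_cancel₀ hvj]; exact congrFun h j)) (badAt_smul hF (isHomogeneous_form1 c0) (inv_ne_zero hvj) hbad)).2
            (inv_mul_cancel₀ hvj)) q
        rw [hq, ← mul_assoc, mul_comm _ (b0 none), mul_assoc, inv_mul_cancel₀ hvj, mul_one] at he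
        exact one_ne_zero (α := k) (by simp [b0] at he)
    let Q := optionEquivLeft k (Exp r d) Φ
    refine ⟨Q, fun h0 => hΦ0 ?_, ?_⟩
    · rw [optionEquivLeft_elim_eval]
      obtain ⟨t, a, ha, hc⟩ := exists_pcoef (F := F) hd emb hj c0 hb (by
        have := hb.2.2
        rw [hspan v0, Submodule.mem_bot] at this
        rw [this]
        exact Submodule.zero_mem _)
      have hz : Q.map (eval c0) = 0 := by
        refine Polynomial.ext fun i => ?_
        have hi : φ (Q.coeff i) = 0 := by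
          have := congrArg (fun p => Polynomial.coeff p i) h0
          rwa [Polynomial.coeff_map, Polynomial.coeff_zero] at this
        rw [Polynomial.coeff_map, Polynomial.coeff_zero, ← hc, ← evPt_aeval hF hd hb.1 hj emb t a ha]
        exact (congrArg (evPt hF hb.1 hj _) hi).trans (map_zero _)
      rw [hz, Polynomial.eval_zero]
    · refine eq_zero_of_evPt hF hξ _ fun v hv hvj t => ?_
      obtain ⟨c, hc, he⟩ := hcoef v hv hvj t
      rw [Polynomial.hom_eval₂]
      have hcomp : (evPt hF hv hvj t).comp φ.toRingHom = eval c := RingHom.ext he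
      rw [hcomp, evPt_C, eval_X, Polynomial.eval₂_eq_eval_map, ← optionEquivLeft_elim_eval]
      by_contra hne
      have hv0 := hΦ (fun o => o.elim (v q) c) hne v ((singEqs_iff hF0 j q _ v).2 ⟨by simp [hvj], hc⟩)
      exact one_ne_zero (α := k) (by rw [← hvj, hv0]; rfl)
  let S : Set (MvPolynomial (Fin 0 ⊕ Free (r := r) hd j) (MvPolynomial (Fin (r + 1)) k ⧸ chartIdeal (k := k) ξ j)) :=
    Set.range MvPolynomial.X ∪ Set.range fun q => C (Ideal.Quotient.mk (chartIdeal (k := k) ξ j) (MvPolynomial.X q))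
  have hS : ∀ x, x ∈ Algebra.adjoin k S := fun x => by
    induction x using MvPolynomial.induction_on with
    | C a =>
      obtain ⟨p, rfl⟩ := Ideal.Quotient.mk_surjective a
      induction p using MvPolynomial.induction_on with
      | C a => exact (Algebra.adjoin k S).algebraMap_mem a
      | add p p' hp hp' => rw [map_add, map_add]; exact add_mem hp hp'
      | mul_X p q hp => rw [map_mul, map_mul]; exact mul_mem hp (Algebra.subset_adjoin (Or.inr ⟨q, rfl⟩))
    | add p p' hp hp' => exact add_mem hp hp'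
    | mul_X p i hp => exact mul_mem hp (Algebra.subset_adjoin (Or.inl ⟨i, rfl⟩))
  have hQ : ∀ b ∈ S, ∃ Q : Polynomial (MvPolynomial (Exp r d) k), Q.map φ.toRingHom ≠ 0 ∧
      Q.eval₂ φ.toRingHom b = 0 := by
    rintro _ (⟨i, rfl⟩ | ⟨q, rfl⟩)
    · rcases i with l | ⟨s, hs⟩
      · exact l.elim0
      · have : φ (MvPolynomial.X s) = MvPolynomial.X (Sum.inr ⟨s, hs⟩) := by
          simp only [φ, aeval_X, psi, coef, dif_neg hs]
          rw [Finset.sum_eq_zero fun q _ => if_neg fun h => hs ⟨q, h⟩, add_zero]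
        rw [← this]
        exact exists_linear_eq (k := k) (R := MvPolynomial (Exp r d) k)
          (B := MvPolynomial (Fin 0 ⊕ Free (r := r) hd j) (MvPolynomial (Fin (r + 1)) k ⧸ chartIdeal (k := k) ξ j)) φ _
    · exact hX q
  refine exists_generator hP0 (le_trans ?_ (add_le_add (dim_le_of_generators φ S hS hQ hker) le_rfl))
  rw [MvPolynomial.ringKrullDim_of_isNoetherianRing, hdim j hξ, Nat.card_eq_fintype_card, Fintype.card_sum, Fintype.card_fin,
    Fintype.card_subtype_compl, ← Set.toFinset_card, Set.toFinset_range,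
    Finset.card_image_of_injective _ (slot_injective hd j), Finset.card_univ, Fintype.card_fin]
  have h2 : r + 1 ≤ Fintype.card (Exp r d) := by
    simpa using Fintype.card_le_of_injective _ (slot_injective hd j)
  have h3 : Fintype.card (Exp r d) ≤ n + (0 + (Fintype.card (Exp r d) - (r + 1))) + 1 := by omega
  exact_mod_cast h3

/-- The singular forms are the zeros of a prime polynomial in the coefficients. -/
theorem exists_singular_disc (m d : ℕ) (hd : 2 ≤ d) :
    ∃ π : MvPolynomial (Exp (m + 1) d) k, Prime π ∧ ∀ G : LefPen.Form (m + 1) k d,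
      (∃ v : Fin (m + 1 + 1) → k, v ≠ 0 ∧ eval v G.1 = 0 ∧ ∀ i, eval v (pderiv i G.1) = 0) ↔
        eval (coords G) π = 0 := by
  classical
  haveI := smoothRel_projSpace (k := k) (m + 1)
  haveI : SmoothOfRelativeDimension (m + 1) (𝟙 (CohB1.ProjSpace (m + 1) k) ≫ CohB1.ProjSpace.toSpec (m + 1) k) := by
    rwa [Category.id_comp]
  haveI : IrreducibleSpace ↥(CohB1.ProjSpace (m + 1) k) := GenusZeroLib.irreducibleSpace_projSpace k (m + 1)
  obtain ⟨K, _, _, ξ, N, F, e, hM⟩ := exists_isModel (m + 1) (𝟙 (CohB1.ProjSpace (m + 1) k))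
  have hF := hM.eqn
  obtain ⟨j0, hj0⟩ := Opens.mem_iSup.mp (show genericPoint ↥(CohB1.ProjSpace (m + 1) k) ∈
    ⨆ j, QCohLib.stdOpen (m + 1) k j by rw [QCohLib.iSup_stdOpen]; trivial)
  have hξ0 := hM.ne j0 hj0
  have hF0 : ∀ l, F l = 0 := fun l => deh_injective_of_homogeneous j0 (hF.homog l) (by
    have h := mem_chartIdeal hF j0 l
    rw [← hM.ker j0 (hM.mem j0 hξ0), RingHom.mem_ker] at h
    exact h)
  have hW := finrank_eq m (𝟙 (CohB1.ProjSpace (m + 1) k)) hM
  obtain ⟨c0, j, v0, hj, hb, -, -, hu⟩ := exists_one_point (d := d) hF hM.dim hM.reg hW ⟨j0, hξ0⟩ hd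
  have hbad0 : Bad' F (form1 c0) := ⟨v0, fun h => one_ne_zero (α := k) (by rw [← hj, h]; rfl), hb⟩
  let P : Ideal (MvPolynomial (Exp (m + 1) d) k) :=
    { carrier := {Φ | ∀ c, Bad' F (form1 c) → eval c Φ = 0}
      zero_mem' := fun c _ => map_zero _
      add_mem' := fun {a b} ha hb c hc => by rw [map_add, ha c hc, hb c hc, add_zero]
      smul_mem' := fun a b hb c hc => by rw [smul_eq_mul, map_mul, hb c hc, mul_zero] }
  haveI : P.IsPrime := ⟨fun h => by
      have := ((Ideal.eq_top_iff_one P).1 h) c0 hbad0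
      rw [map_one] at this
      exact one_ne_zero this,
    fun {a b} h => bad_irreducible hF (by omega) a b fun c hc => (map_mul (eval c) a b).symm.trans (h c hc)⟩
  have hP0 : P ≠ ⊥ := fun h => by
    obtain ⟨Φ, h0, hΦ⟩ := bad_proper (d := d) hF (by omega) (m + 1) hM.dim hW
    exact h0 (by simpa [h] using (show Φ ∈ P from hΦ))
  obtain ⟨π, hπ, hPπ⟩ := exists_disc hF hF0 rfl hM.dim (by omega) hj hb hu P hP0 fun Φ hΦ => hΦ
  refine ⟨π, hπ, fun G => ?_⟩
  have hbad : Bad' F G.1 ↔ ∃ v : Fin (m + 1 + 1) → k, v ≠ 0 ∧ eval v G.1 = 0 ∧ ∀ i, eval v (pderiv i G.1) = 0 := by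
    refine exists_congr fun w => and_congr_right fun _ => ?_
    have hspan : Submodule.span k (Set.range fun l => grad w (F l)) = ⊥ := by
      rw [Submodule.span_eq_bot]
      rintro _ ⟨l, rfl⟩
      simp [hF0 l, grad_zero]
    refine ⟨fun h => ⟨h.2.1, fun a => congrFun ((Submodule.mem_bot k).1 (hspan ▸ h.2.2)) a⟩,
      fun h => ⟨fun l => by simp [hF0 l], h.1, ?_⟩⟩
    rw [hspan, Submodule.mem_bot]
    exact funext h.2
  rw [← hbad, ← form1_coords G]
  refine ⟨fun h => ?_, fun h => by_contra fun hn => ?_⟩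
  · exact (show π ∈ P by rw [hPπ]; exact Ideal.mem_span_singleton_self π) _ h
  · obtain ⟨Φ, h0, hΦ⟩ := D_closed m (𝟙 (CohB1.ProjSpace (m + 1) k)) hM _ hn
    obtain ⟨Φ', rfl⟩ := Ideal.mem_span_singleton.1 (hPπ ▸ (show Φ ∈ P from fun c hc => hΦ c hc))
    exact h0 (by rw [map_mul, h, zero_mul])

/-- Polynomial functions on the space of forms are polynomials in the coefficients. -/
theorem exists_polyFun_equiv (r d : ℕ) :
    ∃ e : MvPolynomial (Exp r d) k ≃ₐ[k]
        ↥(Algebra.adjoin k (Set.range (fun l : Module.Dual k (LefPen.Form r k d) => (l : LefPen.Form r k d → k)))),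
      ∀ Φ G, (e Φ).1 G = eval (coords G) Φ := by
  let θ : MvPolynomial (Exp r d) k →ₐ[k] (LefPen.Form r k d → k) :=
    AlgHom.pi fun G => aeval (coords G)
  have hθ : ∀ Φ G, θ Φ G = eval (coords G) Φ := fun Φ G => congrArg (fun f => f Φ) (aeval_eq_eval (coords G))
  have hinj : Function.Injective θ := fun Φ Ψ h => MvPolynomial.funext fun c => by
    rw [← coords_formOf c, ← hθ, ← hθ, h]
  have hrange : θ.range =
      Algebra.adjoin k (Set.range (fun l : Module.Dual k (LefPen.Form r k d) => (l : LefPen.Form r k d → k))) := by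
    refine SetLike.ext fun f => ⟨?_, fun hf => ?_⟩
    · intro hf
      obtain ⟨Φ, rfl⟩ := (AlgHom.mem_range θ).1 hf
      rw [show θ Φ = _ from funext (hθ Φ)]
      exact isPolyFun_eval Φ
    · have hf' : LefPen.IsPolyFun k f := hf
      obtain ⟨Φ, hΦ⟩ := exists_eval_of_isPolyFun (k := k) (r := r) (d := d) (f := f) hf'
      have hfΦ : θ Φ = f := funext fun G => by rw [hθ, hΦ]
      exact (AlgHom.mem_range θ).2 ⟨Φ, hfΦ⟩
  obtain ⟨e, he⟩ := exists_equiv θ _ hrange hinj
  exact ⟨e, fun Φ G => (he Φ G).trans (hθ Φ G)⟩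

end LefPenLib
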