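import Groth.Agent.LefPenLib.Jets
import Groth.Agent.CIGenLib.DualVar
import Mathlib

/-!
# Hypersurfaces containing a linear space
-/

set_option autoImplicit false
set_option linter.unusedSectionVars false
set_option linter.style.haveILetI false

universe u

open MvPolynomial CIGen

namespace LefPenLib

variable {k : Type u} [Field k] {n d : ℕ}

theorem isPolyFun_comp {V W : Type u} [AddCommGroup V] [Module k V] [AddCommGroup W] [Module k W] (L : W →ₗ[k] V)
    {f : V → k} (hf : LefPen.IsPolyFun k f) : LefPen.IsPolyFun k fun w => f (L w) := by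
  induction hf using Algebra.adjoin_induction with
  | mem x hx =>
    obtain ⟨l, rfl⟩ := hx
    exact Algebra.subset_adjoin ⟨l.comp L, rfl⟩
  | algebraMap a => exact Subalgebra.algebraMap_mem _ a
  | add x y _ _ hx hy => exact add_mem hx hy
  | mul x y _ _ hx hy => exact mul_mem hx hy

/-- Incidence over a parametrized family of points. -/
theorem incidence_param {τ : Type} [Fintype τ] (par : Fin (n + 1) → MvPolynomial τ k) {ι : Type} [Fintype ι]
    (g : ι → MvPolynomial (Fin (n + 1)) k) (q : ℕ) (hq : Fintype.card τ < q) :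
    ∃ Φ : MvPolynomial ι k, Φ ≠ 0 ∧ ∀ (t : τ → k) (a : ι → k),
      q ≤ Module.finrank k (jspan (fun i => eval t (par i)) g (Fin.elim0 : Fin 0 → MvPolynomial (Fin (n + 1)) k)) →
      eval (fun i => eval t (par i)) (∑ x, a x • g x) = 0 → grad (fun i => eval t (par i)) (∑ x, a x • g x) = 0 →
      eval a Φ = 0 := by
  classical
  obtain ⟨Φ, hΦ0, hΦ⟩ := exists_poly_of_rank (⊥ : Ideal (MvPolynomial τ k)) (Fintype.card τ) (by
      rw [ringKrullDim_eq_of_ringEquiv (RingEquiv.quotientBot _), MvPolynomial.ringKrullDim_of_isNoetherianRing,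
        ringKrullDim_eq_zero_of_field, zero_add, Nat.card_eq_fintype_card])
    (ρ := Option (Fin (n + 1))) (κ := Fin 0)
    (fun o x => Sum.elim (fun x : ι => aeval par (o.elim (g x) fun i => pderiv i (g x))) (fun x => x.elim0) x) q
    (by rw [Fintype.card_fin]; omega)
  refine ⟨Φ, hΦ0, fun t a hrk h0 h1 => hΦ t a Fin.elim0 bot_le (le_of_le_of_eq hrk ?_) fun o => ?_⟩
  · have hev : ∀ P, eval t (aeval par P) = eval (fun i => eval t (par i)) P := fun P => by
      rw [← aeval_eq_eval, comp_aeval_apply]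
      rfl
    rw [jspan]
    refine congrArg (fun f => Module.finrank k (Submodule.span k (Set.range f))) (funext fun x => funext fun o => ?_)
    rcases x with x | x
    · rcases o with _ | i
      exacts [(hev _).symm, (hev _).symm]
    · exact x.elim0
  · have hev : ∀ P, eval t (aeval par P) = eval (fun i => eval t (par i)) P := fun P => by
      rw [← aeval_eq_eval, comp_aeval_apply]
      rfl
    rw [Fintype.sum_sum_type, Fin.sum_univ_zero, add_zero]
    simp only [Sum.elim_inl, hev]
    rcases o with _ | i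
    · rw [map_sum] at h0
      rw [← h0]
      exact Finset.sum_congr rfl fun x _ => by rw [smul_eval, mul_comm]; rfl
    · have h2 := congrFun h1 i
      simp only [grad, map_sum, Derivation.map_smul, smul_eval, Pi.zero_apply] at h2
      rw [← h2]
      exact Finset.sum_congr rfl fun x _ => mul_comm _ _

/-- The vectors orthogonal to a subspace. -/
def annVec (U : Submodule k (Fin (n + 1) → k)) : Submodule k (Fin (n + 1) → k) where
  carrier := {b | ∀ u ∈ U, dotV u b = 0}
  zero_mem' := fun u _ => map_zero _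
  add_mem' := fun {a b} ha hb u hu => by rw [map_add, ha u hu, hb u hu, add_zero]
  smul_mem' := fun c b hb u hu => by rw [map_smul, hb u hu, smul_zero]

theorem dual_ker_le (U : Submodule k (Fin (n + 1) → k)) :
    n + 1 - Module.finrank k U ≤ Module.finrank k (annVec U) := by
  let Λ : (Fin (n + 1) → k) →ₗ[k] Module.Dual k U :=
    LinearMap.mk₂ k (fun b (u : U) => dotV (u : Fin (n + 1) → k) b)
      (fun b b' u => map_add _ _ _) (fun c b u => map_smul _ _ _)
      (fun b u u' => by simp [dotV_apply, add_mul, Finset.sum_add_distrib])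
      (fun c b u => by simp [dotV_apply, Finset.mul_sum, mul_assoc])
  have h1 := Λ.finrank_range_add_finrank_ker
  have h2 := Submodule.finrank_le (LinearMap.range Λ)
  have h3 : LinearMap.ker Λ ≤ annVec U := fun b hb u hu => LinearMap.congr_fun (LinearMap.mem_ker.1 hb) ⟨u, hu⟩
  have h4 := Submodule.finrank_mono h3
  rw [Subspace.dual_finrank_eq] at h2
  rw [Module.finrank_fin_fun] at h1
  omega

variable [IsAlgClosed k]

theorem isPolyFun_restrict {V : Type u} [AddCommGroup V] [Module k V] (W : Submodule k V) {f : V → k}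
    (hf : LefPen.IsPolyFun k f) : LefPen.IsPolyFun k fun w : ↥W => f w :=
  isPolyFun_comp W.subtype hf

/-- The coefficient vectors of the forms in a subspace. -/
noncomputable def coordSub (W : Submodule k (LefPen.Form n k d)) : Submodule k (Exp n d → k) :=
  W.comap ((form1L (r := n) (d := d) (k := k)).codRestrict (homogeneousSubmodule (Fin (n + 1)) k d)
    fun c => (mem_homogeneousSubmodule d _).2 (isHomogeneous_form1 c))

theorem mem_coordSub {W : Submodule k (LefPen.Form n k d)} {c : Exp n d → k} : c ∈ coordSub W ↔ formOf c ∈ W :=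
  Iff.rfl


set_option maxHeartbeats 400000 in
/-- The jets of the forms through a linear space fill enough at each point. -/
theorem isGeneric_smooth (hd : 2 ≤ d) (U : Submodule k (Fin (n + 1) → k)) (hU : 2 * Module.finrank k U ≤ n + 1)
    (W : Submodule k (LefPen.Form n k d)) (hW : ∀ G : LefPen.Form n k d, G ∈ W ↔ ∀ u ∈ U, eval u G.1 = 0) :
    LefPen.IsGeneric k {G : ↥W | ∀ v : Fin (n + 1) → k, v ≠ 0 → eval v G.1.1 = 0 →
      ∃ i : Fin (n + 1), eval v (pderiv i G.1.1) ≠ 0} := by
  classical
  set m := Module.finrank k U with hm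
  obtain ⟨π0, hπ0⟩ := (coordSub W).subtype.exists_leftInverse_of_injective (Submodule.ker_subtype _)
  let π : (Exp n d → k) →ₗ[k] (Exp n d → k) := (coordSub W).subtype.comp π0
  have hπmem : ∀ a, formOf (π a) ∈ W := fun a => mem_coordSub.1 (π0 a).2
  have hπfix : ∀ c, formOf c ∈ W → π c = c := fun c hc => by
    have := LinearMap.congr_fun hπ0 ⟨c, mem_coordSub.2 hc⟩
    exact congrArg Subtype.val this
  let g : Exp n d → MvPolynomial (Fin (n + 1)) k := fun x => form1 (π (Pi.single x 1))
  let h : Fin 0 → MvPolynomial (Fin (n + 1)) k := Fin.elim0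
  -- members of the system
  have hsys : ∀ (v : Fin (n + 1) → k) (P : MvPolynomial (Fin (n + 1)) k), P.IsHomogeneous d →
      (∀ u ∈ U, eval u P = 0) → jet v P ∈ jspan v g h := fun v P hP hPU => by
    obtain ⟨c, rfl⟩ : ∃ c : Exp n d → k, form1 c = P := ⟨coords ⟨P, (mem_homogeneousSubmodule d _).2 hP⟩, form1_coords _⟩
    exact jet_mem_jspan π h v (hπfix c ((hW _).2 hPU))
  have hlin : ∀ b : Fin (n + 1) → k, (CIGen.lin b).IsHomogeneous 1 := fun b => IsHomogeneous.sum _ _ _ fun q _ => by
    simpa using (isHomogeneous_C _ (b q)).mul (isHomogeneous_X k q)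
  -- off the linear space
  have hout : ∀ j : Fin (n + 1), ∃ Φ : MvPolynomial (Exp n d) k, Φ ≠ 0 ∧ ∀ (v : Fin (n + 1) → k) (a : Exp n d → k),
      v j = 1 → v ∉ U → eval v (form1 (π a)) = 0 → grad v (form1 (π a)) = 0 → eval a Φ = 0 := fun j => by
    obtain ⟨Φ, hΦ0, hΦ⟩ := incidence (Ideal.span {MvPolynomial.X j - 1}) n (by
      have hne : (MvPolynomial.X j - 1 : MvPolynomial (Fin (n + 1)) k) ≠ 0 := fun h => by
        have := congrArg (eval (0 : Fin (n + 1) → k)) h
        simp at this
      have h1 := ringKrullDim_succ_le_of_surjective (Ideal.Quotient.mk (Ideal.span {MvPolynomial.X j - (1 : MvPolynomial (Fin (n + 1)) k)}))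
        Ideal.Quotient.mk_surjective (mem_nonZeroDivisors_of_ne_zero hne)
        (Ideal.Quotient.eq_zero_iff_mem.2 (Ideal.mem_span_singleton_self _))
      rw [MvPolynomial.ringKrullDim_of_isNoetherianRing, ringKrullDim_eq_zero_of_field, zero_add, Nat.card_fin,
        Nat.cast_add, Nat.cast_one] at h1
      exact ENat.WithBot.add_le_add_one_right_iff.1 h1) g h (n + 1) (by simp)
    refine ⟨Φ, hΦ0, fun v a hvj hvU h0 h1 => hΦ v a ?_ ?_ (by rwa [sum_smul_form1]) (by rw [sum_smul_form1, h1]; exact Submodule.zero_mem _)⟩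
    · rw [Ideal.span_singleton_le_iff_mem, RingHom.mem_ker]
      simp [hvj]
    · obtain ⟨ψ, hψ, hker⟩ := U.exists_le_ker_of_notMem hvU
      let α : Fin (n + 1) → k := fun q => (ψ v)⁻¹ * ψ (Pi.single q 1)
      have hα : ∀ w, dotV w α = (ψ v)⁻¹ * ψ w := fun w => by
        rw [dotV_apply]
        simp only [α, mul_left_comm _ (ψ v)⁻¹, ← Finset.mul_sum]
        conv_rhs => rw [pi_eq_sum_univ' w]
        simp [map_sum]
      let p := CIGen.lin α * MvPolynomial.X j ^ (d - 2)
      have hp : p.IsHomogeneous (d - 1) := by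
        have := (hlin α).mul ((isHomogeneous_X k j).pow (d - 2))
        rwa [show 1 + 1 * (d - 2) = d - 1 by omega] at this
      have hp1 : eval v p = 1 := by simp [p, eval_lin, hα, hvj, hψ]
      have h2 := le_finrank_of_injOn ⊤ ((jet v).comp (mulLin p)) (jspan v g h)
        (fun b _ hb => jet_mul_lin_injective hp1 hb) fun b _ => hsys v _ (by
          have := hp.mul (hlin b)
          rwa [show d - 1 + 1 = d by omega] at this) fun u hu => by
          show eval u (p * CIGen.lin b) = 0
          simp [p, eval_lin, hα, show ψ u = 0 from hker hu]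
      rwa [finrank_top, Module.finrank_fin_fun] at h2
  -- on the linear space
  let bU := Module.finBasisOfFinrankEq k U hm.symm
  have hin : ∀ x : Fin m × Fin (n + 1), ∃ Φ : MvPolynomial (Exp n d) k, Φ ≠ 0 ∧
      ∀ (v : U) (a : Exp n d → k), bU.repr v x.1 = 1 → (v : Fin (n + 1) → k) x.2 ≠ 0 →
        eval (v : Fin (n + 1) → k) (form1 (π a)) = 0 → grad (v : Fin (n + 1) → k) (form1 (π a)) = 0 → eval a Φ = 0 := by
    rintro ⟨l, j⟩
    let τ := {i : Fin m // i ≠ l}
    let par : Fin (n + 1) → MvPolynomial τ k := fun q =>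
      C ((bU l : Fin (n + 1) → k) q) + ∑ i : τ, C ((bU i.1 : Fin (n + 1) → k) q) * MvPolynomial.X i
    have hpar : ∀ v : U, bU.repr v l = 1 → (fun q => eval (fun i : τ => bU.repr v i.1) (par q)) = (v : Fin (n + 1) → k) :=
      fun v hv => funext fun q => by
        have hsum : (v : Fin (n + 1) → k) q = ∑ i, bU.repr v i * (bU i : Fin (n + 1) → k) q := by
          have h := congrArg (fun w : U => (w : Fin (n + 1) → k) q) (bU.sum_repr v)
          simp only [Submodule.coe_sum, Finset.sum_apply, Submodule.coe_smul, Pi.smul_apply, smul_eq_mul] at h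
          exact h.symm
        rw [hsum, ← Finset.add_sum_erase _ _ (Finset.mem_univ l), hv, one_mul]
        simp only [par, map_add, map_sum, map_mul, eval_C, eval_X]
        congr 1
        rw [← Finset.sum_subtype (Finset.univ.erase l) (fun i => by simp)
          (fun i => (bU i : Fin (n + 1) → k) q * bU.repr v i)]
        exact Finset.sum_congr rfl fun i _ => mul_comm _ _
    obtain ⟨Φ, hΦ0, hΦ⟩ := incidence_param par g (n + 1 - m) (by
        have hl := l.2
        simp only [τ, Fintype.card_subtype_compl, Fintype.card_fin, Fintype.card_subtype_eq]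
        omega)
    refine ⟨Φ, hΦ0, fun v a hvl hvj h0 h1 => hΦ (fun i => bU.repr v i.1) a ?_
      (by rw [hpar v hvl, sum_smul_form1]; exact h0) (by rw [hpar v hvl, sum_smul_form1]; exact h1)⟩
    rw [hpar v hvl]
    refine (dual_ker_le U).trans ?_
    let c := ((v : Fin (n + 1) → k) j)⁻¹
    let p := MvPolynomial.C (c ^ (d - 1)) * MvPolynomial.X j ^ (d - 1)
    have hp : p.IsHomogeneous (d - 1) := by
      have := (isHomogeneous_C (Fin (n + 1)) (c ^ (d - 1))).mul ((isHomogeneous_X k j).pow (d - 1))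
      rwa [zero_add, one_mul] at this
    have hp1 : eval (v : Fin (n + 1) → k) p = 1 := by
      rw [map_mul, eval_C, map_pow, eval_X, ← mul_pow, inv_mul_cancel₀ hvj, one_pow]
    refine le_finrank_of_injOn (annVec U) ((jet (v : Fin (n + 1) → k)).comp (mulLin p)) (jspan (v : Fin (n + 1) → k) g h)
      (fun b _ hb => jet_mul_lin_injective hp1 hb) fun b hb => hsys _ _ (by
        have := hp.mul (hlin b)
        rwa [show d - 1 + 1 = d by omega] at this) fun u hu => ?_
    show eval u (p * CIGen.lin b) = 0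
    rw [map_mul, eval_lin, hb u hu, mul_zero]
  choose Φo hΦo0 hΦo using hout
  choose Φi hΦi0 hΦi using hin
  obtain ⟨a0, ha0⟩ : ∃ a : Exp n d → k, eval a ((∏ j, Φo j) * ∏ x, Φi x) ≠ 0 := by
    by_contra hall
    push Not at hall
    exact mul_ne_zero (Finset.prod_ne_zero_iff.2 fun j _ => hΦo0 j) (Finset.prod_ne_zero_iff.2 fun x _ => hΦi0 x)
      (MvPolynomial.funext fun a => by rw [hall a, map_zero])
  let z : Exp n d → k := a0 - π a0
  obtain ⟨Ψ, hΨ⟩ : ∃ Ψ : MvPolynomial (Exp n d) k,
      ∀ c, eval c Ψ = eval (c + z) ((∏ j, Φo j) * ∏ x, Φi x) :=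
    ⟨aeval (fun s => MvPolynomial.X s + C (z s)) ((∏ j, Φo j) * ∏ x, Φi x), fun c => by
      rw [← aeval_eq_eval, comp_aeval_apply, aeval_eq_eval]
      exact congrArg (fun f => eval f _) (funext fun s => by simp)⟩
  have hpf : LefPen.IsPolyFun k fun G : ↥W => eval (coords (r := n) (d := d) (G : LefPen.Form n k d)) Ψ :=
    isPolyFun_restrict (V := LefPen.Form n k d) (f := fun H => eval (coords H) Ψ) W (isPolyFun_eval Ψ)
  refine ⟨_, hpf, ⟨⟨formOf (π a0), hπmem a0⟩, ?_⟩, fun G hG v hv h0 => ?_⟩
  · show eval (coords (formOf (π a0))) Ψ ≠ 0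
    rw [hΨ, coords_formOf, show π a0 + z = a0 by simp [z]]
    exact ha0
  rw [hΨ] at hG
  simp only [map_mul, map_prod, mul_ne_zero_iff, Finset.prod_ne_zero_iff, Finset.mem_univ, forall_true_left] at hG
  by_contra hall
  push Not at hall
  have hfix : π (coords G.1 + z) = coords G.1 := by
    rw [map_add, hπfix _ (by rw [formOf_coords]; exact G.2), show π z = 0 by simp [z, hπfix _ (hπmem a0)], add_zero]
  have hbad : ∀ c : k, c ≠ 0 → eval (c • v) (form1 (π (coords G.1 + z))) = 0 ∧ grad (c • v) (form1 (π (coords G.1 + z))) = 0 :=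
    fun c hc => by
    rw [hfix, form1_coords]
    have hh := (mem_homogeneousSubmodule d _).1 G.1.2
    refine ⟨?_, funext fun i => ?_⟩
    · rw [show c • v = fun i => c * v i from rfl, eval_smul_of_homogeneous hh, h0, mul_zero]
    · rw [show c • v = fun i => c * v i from rfl, grad, eval_smul_of_homogeneous hh.pderiv, hall i, mul_zero]
      rfl
  by_cases hvU : v ∈ U
  · have hr : bU.repr ⟨v, hvU⟩ ≠ 0 := fun h => hv (congrArg Subtype.val (bU.repr.map_eq_zero_iff.1 h))
    obtain ⟨l, hl⟩ := Finsupp.ne_iff.1 hr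
    obtain ⟨j, hj⟩ := Function.ne_iff.1 hv
    let c := (bU.repr ⟨v, hvU⟩ l)⁻¹
    have hc : c ≠ 0 := inv_ne_zero hl
    obtain ⟨w, hw, hwr⟩ : ∃ w : U, (w : Fin (n + 1) → k) = c • v ∧ bU.repr w l = 1 := by
      refine ⟨c • (⟨v, hvU⟩ : U), U.coe_smul _ _, ?_⟩
      rw [map_smul, Finsupp.smul_apply, smul_eq_mul]
      exact inv_mul_cancel₀ hl
    have hz := hΦi (l, j) w (coords (G : LefPen.Form n k d) + z)
    rw [hw] at hz
    exact hG.2 (l, j) (hz hwr (mul_ne_zero hc hj) (hbad c hc).1 (hbad c hc).2)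
  · obtain ⟨j, hj⟩ := Function.ne_iff.1 hv
    have hc : (v j)⁻¹ ≠ 0 := inv_ne_zero hj
    exact hG.1 j (hΦo j ((v j)⁻¹ • v) (coords (G : LefPen.Form n k d) + z) (inv_mul_cancel₀ hj) (fun h => hvU ((U.smul_mem_iff hc).1 h)) (hbad _ hc).1 (hbad _ hc).2)

end LefPenLib
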