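import Groth.Agent.LefPenLib.Jets
import Groth.Agent.CIGenLib.Bridge
import Groth.Agent.OrdQuadLib.SecQuad
import Mathlib

/-!
# Transversality of the base locus of two forms
-/

set_option autoImplicit false
set_option linter.unusedSectionVars false
set_option linter.style.haveILetI false

universe u

open CategoryTheory AlgebraicGeometry TopologicalSpace MvPolynomial IsLocalRing GradedCechLib CIGen

namespace LefPenLib

variable {k : Type u} [Field k] [IsAlgClosed k] {r d N : ℕ}

/-- The two forms have a common zero on the variety where their differentials are dependent. -/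
def Bad2 (F : Fin N → MvPolynomial (Fin (r + 1)) k) (G₁ G₂ : MvPolynomial (Fin (r + 1)) k) : Prop :=
  ∃ v, v ≠ 0 ∧ Zero F v ∧ eval v G₁ = 0 ∧ eval v G₂ = 0 ∧
    ∃ a b : k, (a ≠ 0 ∨ b ≠ 0) ∧ BadAt F v (C a * G₁ + C b * G₂)

section loc

variable {R : Type u} [CommRing R] [IsRegularLocalRing R]

/-- A regular quotient by an ideal that is one element modulo squares. -/
theorem spanFinrank_le {I : Ideal R} {s : ℕ} (hreg : IsRegularLocalRing (R ⧸ I))
    (hdim : ringKrullDim (R ⧸ I) = (s : WithBot ℕ∞)) {z : R} (hz : z ∈ maximalIdeal R)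
    (hI : I ≤ Ideal.span {z} ⊔ maximalIdeal R ^ 2) : (maximalIdeal R).spanFinrank ≤ s + 1 := by
  classical
  haveI := hreg
  have hq := IsRegularLocalRing.spanFinrank_maximalIdeal (R := R ⧸ I)
  rw [hdim] at hq
  have hq' : (maximalIdeal (R ⧸ I)).spanFinrank = s := by exact_mod_cast hq
  have hfg : (maximalIdeal (R ⧸ I)).FG := IsNoetherian.noetherian _
  have hfin := Submodule.FG.finite_generators hfg
  choose l hl using fun x : (maximalIdeal (R ⧸ I)).generators => Ideal.Quotient.mk_surjective x.1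
  haveI := hfin.fintype
  let L : Ideal R := Ideal.span (insert z (Set.range l))
  have hm : maximalIdeal R ≤ L := by
    refine Submodule.le_of_le_smul_of_le_jacobson_bot (IsNoetherian.noetherian _)
      (jacobson_eq_maximalIdeal (⊥ : Ideal R) bot_ne_top).ge ?_
    intro x hx
    have h1 : Ideal.Quotient.mk I x ∈ maximalIdeal (R ⧸ I) := by
      rw [← IsLocalRing.map_maximalIdeal_of_surjective (Ideal.Quotient.mk I) Ideal.Quotient.mk_surjective]
      exact Ideal.mem_map_of_mem _ hx
    have h2 : maximalIdeal (R ⧸ I) = (Ideal.span (Set.range l)).map (Ideal.Quotient.mk _) := by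
      conv_lhs => rw [← (maximalIdeal (R ⧸ I)).span_generators]
      rw [Ideal.map_span, ← Set.range_comp]
      congr 1
      ext w
      exact ⟨fun hw => ⟨⟨w, hw⟩, hl _⟩, fun ⟨y, hy⟩ => hy ▸ by rw [Function.comp_apply, hl]; exact y.2⟩
    rw [h2, ← Ideal.mem_comap, Ideal.comap_map_of_surjective _ Ideal.Quotient.mk_surjective, ← RingHom.ker_eq_comap_bot,
      Ideal.mk_ker] at h1
    rw [smul_eq_mul, ← sq]
    have hle : Ideal.span (Set.range l) ⊔ I ≤ L ⊔ maximalIdeal R ^ 2 := by
      refine sup_le (le_sup_of_le_left (Ideal.span_mono (Set.subset_insert _ _))) (hI.trans (sup_le_sup_right ?_ _))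
      exact Ideal.span_mono (Set.singleton_subset_iff.2 (Set.mem_insert _ _))
    exact hle h1
  have hL : L ≤ maximalIdeal R := Ideal.span_le.2 (by
    rintro _ (rfl | ⟨x, rfl⟩)
    · exact hz
    · by_contra hu
      have h1 : IsUnit (Ideal.Quotient.mk I (l x)) := (not_not.1 hu : IsUnit (l x)).map _
      rw [hl x] at h1
      exact (IsLocalRing.mem_maximalIdeal _).1 (Submodule.FG.generators_mem _ x.2) h1)
  have h3 := Submodule.spanFinrank_span_le_ncard_of_finite (R := R) ((Set.finite_range l).insert z)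
  rw [show Submodule.span R (insert z (Set.range l)) = maximalIdeal R from le_antisymm hL hm] at h3
  have h4 : (insert z (Set.range l)).ncard ≤ s + 1 := by
    refine (Set.ncard_insert_le _ _).trans (Nat.add_le_add_right ?_ 1)
    rw [← Set.image_univ]
    refine (Set.ncard_image_le Set.finite_univ).trans ?_
    rw [Set.ncard_univ, Nat.card_coe_set_eq, Submodule.FG.generators_ncard hfg, hq']
  omega

/-- Regular local rings cut by two elements. -/
theorem quotient_pair_iff [Algebra k R] {n : ℕ} (hn : 2 ≤ n) (hdim : ringKrullDim R = (n : WithBot ℕ∞))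
    (hres : ∀ c : R, ∃ α : k, c - algebraMap k R α ∈ maximalIdeal R) {z₁ z₂ : R}
    (h₁ : z₁ ∈ maximalIdeal R) (h₂ : z₂ ∈ maximalIdeal R) :
    (IsRegularLocalRing (R ⧸ Ideal.span {z₁, z₂}) ∧
        ringKrullDim (R ⧸ Ideal.span {z₁, z₂}) = ((n - 2 : ℕ) : WithBot ℕ∞)) ↔
      ∀ a b : k, (a ≠ 0 ∨ b ≠ 0) → algebraMap k R a * z₁ + algebraMap k R b * z₂ ∉ maximalIdeal R ^ 2 := by
  classical
  have hR := IsRegularLocalRing.spanFinrank_maximalIdeal (R := R)
  rw [hdim] at hR
  have hR' : (maximalIdeal R).spanFinrank = n := by exact_mod_cast hR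
  constructor
  · rintro ⟨hreg, hd⟩ a b hab hmem
    have key : ∀ (a b : k) (x y : R), a ≠ 0 → x ∈ maximalIdeal R → y ∈ maximalIdeal R →
        algebraMap k R a * x + algebraMap k R b * y ∈ maximalIdeal R ^ 2 →
        Ideal.span {z₁, z₂} = Ideal.span {x, y} → False := fun a b x y ha hx hy hxy heq => by
      have hxI : x ∈ Ideal.span {y} ⊔ maximalIdeal R ^ 2 := by
        have e : x = algebraMap k R a⁻¹ * (algebraMap k R a * x + algebraMap k R b * y) -
            algebraMap k R a⁻¹ * algebraMap k R b * y := by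
          rw [mul_add, ← mul_assoc, ← map_mul, inv_mul_cancel₀ ha, map_one, one_mul]; ring
        rw [e]
        exact sub_mem ((le_sup_right : _ ≤ Ideal.span {y} ⊔ _) (Ideal.mul_mem_left _ _ hxy))
          ((le_sup_left : Ideal.span {y} ≤ _) (Ideal.mul_mem_left _ _ (Ideal.mem_span_singleton_self y)))
      have h := spanFinrank_le hreg hd hy (heq.trans_le (Ideal.span_le.2 (by
        rintro _ (rfl | rfl)
        exacts [hxI, (le_sup_left : Ideal.span {_} ≤ _) (Ideal.mem_span_singleton_self _)])))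
      omega
    rcases hab with ha | hb
    · exact key a b z₁ z₂ ha h₁ h₂ hmem rfl
    · exact key b a z₂ z₁ hb h₂ h₁ (by rwa [add_comm]) (by rw [Set.pair_comm])
  · intro hind
    have hz1 : z₁ ∉ maximalIdeal R ^ 2 := by simpa using hind 1 0 (Or.inl one_ne_zero)
    obtain ⟨hreg1, hd1⟩ := (quotient_singleton_iff (by omega : 1 ≤ n) hdim h₁).2 hz1
    haveI := hreg1
    let R1 := R ⧸ Ideal.span {z₁}
    let π : R →+* R1 := Ideal.Quotient.mk _
    have hm1 : maximalIdeal R1 = (maximalIdeal R).map π :=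
      (IsLocalRing.map_maximalIdeal_of_surjective π Ideal.Quotient.mk_surjective).symm
    have hzm : π z₂ ∈ maximalIdeal R1 := hm1 ▸ Ideal.mem_map_of_mem _ h₂
    have hz2 : π z₂ ∉ maximalIdeal R1 ^ 2 := fun h => by
      rw [hm1, ← Ideal.map_pow, ← Ideal.mem_comap, Ideal.comap_map_of_surjective _ Ideal.Quotient.mk_surjective,
        ← RingHom.ker_eq_comap_bot, Ideal.mk_ker] at h
      obtain ⟨p, hp, q, hq, hpq⟩ := Submodule.mem_sup.1 h
      obtain ⟨c, rfl⟩ := Ideal.mem_span_singleton'.1 hq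
      obtain ⟨α, hα⟩ := hres c
      refine hind (-α) 1 (Or.inr one_ne_zero) ?_
      rw [map_one, one_mul, map_neg, ← hpq, show -algebraMap k R α * z₁ + (p + c * z₁) = p + (c - algebraMap k R α) * z₁ by ring]
      exact add_mem hp (by rw [sq]; exact Ideal.mul_mem_mul hα h₁)
    obtain ⟨hreg2, hd2⟩ := (quotient_singleton_iff (R := R1) (by omega : 1 ≤ n - 1) hd1 hzm).2 hz2
    haveI := hreg2
    have hmap : Ideal.span {π z₂} = (Ideal.span {z₂}).map π := by rw [Ideal.map_span, Set.image_singleton]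
    have hsup : Ideal.span {z₁} ⊔ Ideal.span {z₂} = Ideal.span {z₁, z₂} := (Ideal.span_insert _ _).symm
    let eq : (R1 ⧸ Ideal.span {π z₂}) ≃+* (R ⧸ Ideal.span {z₁, z₂}) :=
      (Ideal.quotEquivOfEq hmap).trans ((DoubleQuot.quotQuotEquivQuotSup _ _).trans (Ideal.quotEquivOfEq hsup))
    refine ⟨IsRegularLocalRing.of_ringEquiv eq, ?_⟩
    rw [← ringKrullDim_eq_of_ringEquiv eq, hd2, show n - 1 - 1 = n - 2 by omega]

end loc

/-- Scalars exhaust the residue field at a rational point. -/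
theorem exists_residue {A R : Type u} [CommRing A] [CommRing R] [IsLocalRing R] [Algebra A R] [Algebra k R]
    (β : MvPolynomial (Fin (r + 1)) k →+* A) (hβ : Function.Surjective β) (m : Ideal A) [m.IsPrime]
    [IsLocalization.AtPrime R m] {v : Fin (r + 1) → k} (hm : m.comap β = RingHom.ker (eval v))
    (hc : ∀ c, algebraMap k R c = algebraMap A R (β (C c))) (c : R) :
    ∃ α : k, c - algebraMap k R α ∈ maximalIdeal R := by
  obtain ⟨⟨a, s⟩, h⟩ := IsLocalization.surj m.primeCompl c
  obtain ⟨p, hp⟩ := hβ a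
  obtain ⟨q, hq⟩ := hβ (s : A)
  have hq0 : eval v q ≠ 0 := fun h0 => s.2 (by
    rw [← hq]; exact Ideal.mem_comap.1 (hm.symm ▸ (RingHom.mem_ker.2 h0) : q ∈ m.comap β))
  refine ⟨eval v p / eval v q, ?_⟩
  have hu : IsUnit (algebraMap A R s) := IsLocalization.map_units R s
  refine (Ideal.unit_mul_mem_iff_mem _ hu).1 ?_
  rw [mul_sub, mul_comm _ c, h, hc, ← map_mul, ← map_sub, IsLocalization.AtPrime.to_map_mem_maximal_iff R m, ← hq, ← hp,
    ← map_mul, ← map_sub, ← Ideal.mem_comap, hm, RingHom.mem_ker]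
  simp [mul_div_cancel₀ _ hq0]

section scheme

variable {X : Scheme.{u}} (m : ℕ) (i : X ⟶ CohB1.ProjSpace r k) [IsClosedImmersion i] [IrreducibleSpace X]
  [SmoothOfRelativeDimension (m + 1) (i ≫ CohB1.ProjSpace.toSpec r k)]
  {K : Type u} [Field K] [Algebra k K] {ξ : Fin (r + 1) → K} {F : Fin N → MvPolynomial (Fin (r + 1)) k} {e : Fin N → ℕ}
  (hM : IsModel (m + 1) i ξ F e) (G₁ G₂ : LefPen.Form r k d)

theorem secIdeal_chart_pair (j : Fin (r + 1)) :
    (LefPen.secIdeal i ({G₁, G₂} : Set (LefPen.Form r k d))).ideal ⟨chartPre i j, (chart_affine j).preimage i⟩ =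
      Ideal.span {chartHom i j G₁.1, chartHom i j G₂.1} := by
  have h : ∀ G : LefPen.Form r k d, ((LefPen.hypIdeal G).comap i).ideal ⟨chartPre i j, (chart_affine j).preimage i⟩ =
      Ideal.span {chartHom i j G.1} := fun G => by
    rw [← secIdeal_chart i G j, LefPen.secIdeal, iSup_singleton]
  rw [LefPen.secIdeal, iSup_insert, iSup_singleton,
    (Scheme.IdealSheafData.map_gc i).l_sup, Scheme.IdealSheafData.ideal_sup, Pi.sup_apply, h, h, ← Ideal.span_union,
    Set.singleton_union]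

include hM in
/-- A closed point of the base locus. -/
theorem pairPoint (j : Fin (r + 1)) (y : LefPen.Sec i ({G₁, G₂} : Set (LefPen.Form r k d)))
    (hx : (LefPen.secIdeal i ({G₁, G₂} : Set (LefPen.Form r k d))).subschemeι y ∈ chartPre i j)
    (hc : IsClosed ({(LefPen.secIdeal i ({G₁, G₂} : Set (LefPen.Form r k d))).subschemeι y} : Set X)) :
    ∃ v, Zero F v ∧ v j = 1 ∧ eval v G₁.1 = 0 ∧ eval v G₂.1 = 0 ∧
      (((chart_affine j).preimage i).primeIdealOf ⟨_, hx⟩).asIdeal.comap (chartHom i j) = RingHom.ker (eval v) ∧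
      (1 ≤ m → ((IsRegularLocalRing ((LefPen.Sec i ({G₁, G₂} : Set (LefPen.Form r k d))).presheaf.stalk y) ∧
          ringKrullDim ((LefPen.Sec i ({G₁, G₂} : Set (LefPen.Form r k d))).presheaf.stalk y) =
            ((m + 1 - 2 : ℕ) : WithBot ℕ∞)) ↔
        ∀ a b : k, (a ≠ 0 ∨ b ≠ 0) → ¬ BadAt F v (C a * G₁.1 + C b * G₂.1))) := by
  classical
  let I := LefPen.secIdeal i ({G₁, G₂} : Set (LefPen.Form r k d))
  have hF := hM.eqn
  let hV := (chart_affine j).preimage i
  let mm := (hV.primeIdealOf ⟨_, hx⟩).asIdeal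
  haveI : mm.IsMaximal := hV.primeIdealOf_isMaximal_of_isClosed ⟨_, hx⟩ hc
  haveI : (mm.comap (chartHom i j)).IsMaximal := Ideal.comap_isMaximal_of_surjective _ (chartHom_surjective i j)
  obtain ⟨v, hv⟩ := exists_point (mm.comap (chartHom i j))
  have hηj : genericPoint X ∈ chartPre i j :=
    (genericPoint_spec X).mem_open_set_iff (chartPre i j).isOpen |>.2 ⟨_, trivial, hx⟩
  have hker := hM.ker j hηj
  have hle : chartIdeal ξ j ≤ RingHom.ker (eval v) := by
    rw [← hker, ← hv]; exact fun p hp => by rw [Ideal.mem_comap, RingHom.mem_ker.1 hp]; exact mm.zero_mem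
  have hzero := zero_of_chartIdeal_le hF hle
  have hvj : v j = 1 := by
    simpa [RingHom.mem_ker, sub_eq_zero] using hle (X_sub_one_mem ξ (hM.ne j hηj))
  let R := X.presheaf.stalk (I.subschemeι y)
  letI := X.presheaf.algebra_section_stalk ⟨_, hx⟩
  haveI : IsLocalization.AtPrime R mm := hV.isLocalization_stalk ⟨_, hx⟩
  letI : Algebra k R := (LefPen.toStalk k (i ≫ CohB1.ProjSpace.toSpec r k) (I.subschemeι y)).toAlgebra
  have hcst : ∀ c, algebraMap k R c = algebraMap Γ(X, chartPre i j) R (chartHom i j (C c)) := fun c =>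
    OrdQuad.toStalk_chart i j hx c
  set z₁ := algebraMap Γ(X, chartPre i j) R (chartHom i j G₁.1)
  set z₂ := algebraMap Γ(X, chartPre i j) R (chartHom i j G₂.1)
  have hkerI : RingHom.ker (I.subschemeι.stalkMap y).hom = Ideal.span {z₁, z₂} := by
    rw [FComplLib.ker_stalkMap I.subschemeι y ⟨chartPre i j, hV⟩ hx, Scheme.IdealSheafData.ker_subschemeι,
      secIdeal_chart_pair, Ideal.map_span, Set.image_pair]
    rfl
  let eq := (Ideal.quotEquivOfEq hkerI.symm).trans
    (RingHom.quotientKerEquivOfSurjective (I.subschemeι.stalkMap_surjective y))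
  have hzm : ∀ z ∈ ({z₁, z₂} : Set R), z ∈ maximalIdeal R := by
    intro z hz
    by_contra hu
    have htop : Ideal.span {z₁, z₂} = ⊤ := Ideal.eq_top_of_isUnit_mem _ (Ideal.subset_span hz) (not_not.1 hu)
    haveI : Subsingleton (R ⧸ Ideal.span {z₁, z₂}) := Ideal.Quotient.subsingleton_iff.2 htop
    exact not_subsingleton _ eq.symm.toEquiv.subsingleton
  have hG : ∀ a b : k, (C a * G₁.1 + C b * G₂.1).IsHomogeneous d := fun a b => by
    have hG1 := (isHomogeneous_C _ a).mul ((mem_homogeneousSubmodule d _).1 G₁.2)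
    have hG2 := (isHomogeneous_C _ b).mul ((mem_homogeneousSubmodule d _).1 G₂.2)
    rw [zero_add] at hG1 hG2
    exact hG1.add hG2
  have hev : ∀ G : LefPen.Form r k d, algebraMap Γ(X, chartPre i j) R (chartHom i j G.1) ∈ maximalIdeal R →
      eval v G.1 = 0 := fun G h =>
    (mem_sq_iff hF hzero hvj (chartHom i j) (chartHom_surjective i j) hker ((mem_homogeneousSubmodule d _).1 G.2) mm hv).1.1
      ((IsLocalization.AtPrime.to_map_mem_maximal_iff R mm _).1 h)
  refine ⟨v, hzero, hvj, hev G₁ (hzm _ (Or.inl rfl)), hev G₂ (hzm _ (Or.inr rfl)), hv, fun hm1 => ?_⟩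
  obtain ⟨hreg, hdim⟩ := closedPt (m + 1) i hc
  haveI : IsRegularLocalRing R := hreg
  have hiff : ∀ a b : k, algebraMap k R a * z₁ + algebraMap k R b * z₂ ∈ maximalIdeal R ^ 2 ↔
      BadAt F v (C a * G₁.1 + C b * G₂.1) := fun a b => by
    have hz : algebraMap k R a * z₁ + algebraMap k R b * z₂ =
        algebraMap Γ(X, chartPre i j) R (chartHom i j (C a * G₁.1 + C b * G₂.1)) := by
      simp only [map_add, map_mul, hcst]; rfl
    have hmm : algebraMap k R a * z₁ + algebraMap k R b * z₂ ∈ maximalIdeal R :=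
      add_mem (Ideal.mul_mem_left _ _ (hzm _ (Or.inl rfl))) (Ideal.mul_mem_left _ _ (hzm _ (Or.inr rfl)))
    rw [hz] at hmm ⊢
    have h := (mem_sq_iff hF hzero hvj (chartHom i j) (chartHom_surjective i j) hker (hG a b) mm hv).2
      ((IsLocalization.AtPrime.to_map_mem_maximal_iff R mm _).1 hmm)
    rw [← h]
    let e' : R ≃+* Localization.AtPrime mm := (IsLocalization.algEquiv mm.primeCompl _ _).toRingEquiv
    have hzz : e' (algebraMap Γ(X, chartPre i j) R (chartHom i j (C a * G₁.1 + C b * G₂.1))) =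
        algebraMap _ (Localization.AtPrime mm) (chartHom i j (C a * G₁.1 + C b * G₂.1)) :=
      (IsLocalization.algEquiv mm.primeCompl R (Localization.AtPrime mm)).commutes _
    have hmap : (maximalIdeal R ^ 2).map (e' : R →+* Localization.AtPrime mm) = maximalIdeal (Localization.AtPrime mm) ^ 2 := by
      rw [Ideal.map_pow, IsLocalRing.map_maximalIdeal_of_surjective (e' : R →+* Localization.AtPrime mm) e'.surjective]
    rw [← hzz, ← hmap]
    exact ⟨fun h => Ideal.mem_map_of_mem _ h, fun h => by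
      obtain ⟨w, hw, hwz⟩ := (Ideal.mem_map_iff_of_surjective _ e'.surjective).1 h
      rwa [← e'.injective hwz]⟩
  have hq := quotient_pair_iff (k := k) (by omega : 2 ≤ m + 1) hdim
    (exists_residue (chartHom i j) (chartHom_surjective i j) mm hv hcst) (hzm _ (Or.inl rfl)) (hzm _ (Or.inr rfl))
  refine Iff.trans ?_ (hq.trans (forall_congr' fun a => forall_congr' fun b => imp_congr Iff.rfl (not_congr (hiff a b))))
  refine and_congr ⟨fun h => ?_, fun h => ?_⟩ (by rw [ringKrullDim_eq_of_ringEquiv eq])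
  · haveI := h; exact IsRegularLocalRing.of_ringEquiv eq.symm
  · haveI := h; exact IsRegularLocalRing.of_ringEquiv eq

include hM in
/-- A common zero is a closed point of the base locus. -/
theorem exists_pairPoint {j : Fin (r + 1)} {v : Fin (r + 1) → k} (hv : Zero F v) (hvj : v j = 1)
    (h₁ : eval v G₁.1 = 0) (h₂ : eval v G₂.1 = 0) :
    ∃ (y : LefPen.Sec i ({G₁, G₂} : Set (LefPen.Form r k d)))
      (hx : (LefPen.secIdeal i ({G₁, G₂} : Set (LefPen.Form r k d))).subschemeι y ∈ chartPre i j),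
      IsClosed ({y} : Set (LefPen.Sec i ({G₁, G₂} : Set (LefPen.Form r k d)))) ∧
      IsClosed ({(LefPen.secIdeal i ({G₁, G₂} : Set (LefPen.Form r k d))).subschemeι y} : Set X) ∧
      (((chart_affine j).preimage i).primeIdealOf ⟨_, hx⟩).asIdeal.comap (chartHom i j) = RingHom.ker (eval v) := by
  classical
  let I := LefPen.secIdeal i ({G₁, G₂} : Set (LefPen.Form r k d))
  have hF := hM.eqn
  have hξ := ne_zero_of_zero hF hv (j := j) (by rw [hvj]; exact one_ne_zero)
  have hηj := hM.mem j hξ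
  haveI : (RingHom.ker (eval v)).IsMaximal := RingHom.ker_isMaximal_of_surjective _ fun x => ⟨C x, eval_C x⟩
  have hkle : RingHom.ker (chartHom i j) ≤ RingHom.ker (eval v) := hM.ker j hηj ▸ chartIdeal_le hF hv hvj
  haveI : ((RingHom.ker (eval v)).map (chartHom i j)).IsMaximal :=
    Ideal.IsMaximal.map_of_surjective_of_ker_le (chartHom_surjective i j) hkle
  obtain ⟨x, hx, hxc, hxm⟩ := chart_maximal (m + 1) i j ((RingHom.ker (eval v)).map (chartHom i j))
  have hxs : x ∈ I.support := by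
    rw [I.mem_support_iff_of_mem (U := ⟨chartPre i j, (chart_affine j).preimage i⟩) hx, secIdeal_chart_pair,
      Scheme.zeroLocus_span, Scheme.mem_zeroLocus_iff]
    intro f hf
    letI := X.presheaf.algebra_section_stalk ⟨x, hx⟩
    haveI := ((chart_affine j).preimage i).isLocalization_stalk ⟨x, hx⟩
    rw [Scheme.mem_basicOpen _ _ _ hx]
    intro hu
    refine ((IsLocalization.AtPrime.isUnit_to_map_iff (X.presheaf.stalk x)
      (((chart_affine j).preimage i).primeIdealOf ⟨x, hx⟩).asIdeal _).1 hu) ?_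
    rw [hxm]
    rcases hf with rfl | rfl <;> exact Ideal.mem_map_of_mem _ (RingHom.mem_ker.2 (by assumption))
  obtain ⟨y, hy⟩ : x ∈ Set.range I.subschemeι := by rw [I.range_subschemeι]; exact hxs
  subst hy
  have hyc : IsClosed ({y} : Set (LefPen.Sec i ({G₁, G₂} : Set (LefPen.Form r k d)))) := by
    have hpre : I.subschemeι ⁻¹' {I.subschemeι y} = {y} := by
      ext w
      exact ⟨fun h => I.subschemeι.isClosedEmbedding.injective h, fun h => h ▸ rfl⟩
    rw [← hpre]; exact hxc.preimage I.subschemeι.continuous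
  refine ⟨y, hx, hyc, hxc, ?_⟩
  rw [hxm, Ideal.comap_map_of_surjective _ (chartHom_surjective i j), ← RingHom.ker_eq_comap_bot, sup_eq_left.2 hkle]

/-- On a curve two forms with a common zero are dependent there. -/
theorem dependent_of_finrank (hF : IsEqn ξ F e) {v : Fin (r + 1) → k} {j : Fin (r + 1)} (hvj : v j = 1) (hv : Zero F v)
    (hW : Module.finrank k (Submodule.span k (Set.range fun l => grad v (F l))) + 1 = r)
    {H₁ H₂ : MvPolynomial (Fin (r + 1)) k} (hh₁ : H₁.IsHomogeneous d) (hh₂ : H₂.IsHomogeneous d) (h₁ : eval v H₁ = 0)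
    (h₂ : eval v H₂ = 0) : ∃ a b : k, (a ≠ 0 ∨ b ≠ 0) ∧ BadAt F v (C a * H₁ + C b * H₂) := by
  classical
  set W := Submodule.span k (Set.range fun l => grad v (F l))
  have hWle : W ≤ LinearMap.ker (dotV v) := Submodule.span_le.2 (by
    rintro _ ⟨l, rfl⟩
    show dotV v (grad v (F l)) = 0
    rw [dotV_apply, euler (hF.homog l) v, hv l, mul_zero])
  have hg : ∀ {H : MvPolynomial (Fin (r + 1)) k}, H.IsHomogeneous d → eval v H = 0 → grad v H ∈ LinearMap.ker (dotV v) :=
    fun hh h => by rw [LinearMap.mem_ker, dotV_apply, euler hh v, h, mul_zero]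
  have hgr : ∀ a b : k, grad v (C a * H₁ + C b * H₂) = a • grad v H₁ + b • grad v H₂ := fun a b => by
    funext q; simp [grad]
  by_cases h1 : grad v H₁ ∈ W
  · exact ⟨1, 0, Or.inl one_ne_zero, hv, by simp [h₁], by rw [hgr]; simpa using h1⟩
  have hsup : W ⊔ Submodule.span k {grad v H₁} = LinearMap.ker (dotV v) := by
    refine Submodule.eq_of_le_of_finrank_le (sup_le hWle ((Submodule.span_singleton_le_iff_mem _ _).2 (hg hh₁ h₁))) ?_
    rw [finrank_ker_dotV (j := j) (by rw [hvj]; exact one_ne_zero)]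
    have hlt : W < W ⊔ Submodule.span k {grad v H₁} := lt_of_le_of_ne le_sup_left fun h => h1 (by
      rw [h]; exact (le_sup_right : Submodule.span k {grad v H₁} ≤ _) (Submodule.mem_span_singleton_self _))
    have := Submodule.finrank_lt_finrank_of_lt hlt
    omega
  obtain ⟨p, hp, q, hq, hpq⟩ := Submodule.mem_sup.1 (hsup.symm ▸ hg hh₂ h₂)
  obtain ⟨c, rfl⟩ := Submodule.mem_span_singleton.1 hq
  refine ⟨-c, 1, Or.inr one_ne_zero, hv, by simp [h₁, h₂], ?_⟩
  rw [hgr, ← hpq, neg_smul, one_smul, show -(c • grad v H₁) + (p + c • grad v H₁) = p by abel]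
  exact hp

include hM in
/-- Transversality of the base locus read on the equations. -/
theorem transversal_pair_iff :
    LefPen.Transversal k (m + 1) 2 (LefPen.secToSpec i ({G₁, G₂} : Set (LefPen.Form r k d))) ↔ ¬ Bad2 F G₁.1 G₂.1 := by
  classical
  have hF := hM.eqn
  set g := LefPen.secToSpec i ({G₁, G₂} : Set (LefPen.Form r k d))
  let I := LefPen.secIdeal i ({G₁, G₂} : Set (LefPen.Form r k d))
  haveI : LocallyOfFiniteType (i ≫ CohB1.ProjSpace.toSpec r k) :=
    haveI : Smooth (i ≫ CohB1.ProjSpace.toSpec r k) := SmoothOfRelativeDimension.smooth (m + 1) _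
    inferInstance
  haveI : LocallyOfFiniteType g := by
    show LocallyOfFiniteType (I.subschemeι ≫ i ≫ CohB1.ProjSpace.toSpec r k)
    infer_instance
  haveI : JacobsonSpace ↥(LefPen.Sec i ({G₁, G₂} : Set (LefPen.Form r k d))) := LocallyOfFiniteType.jacobsonSpace g
  have hne : ∀ {v : Fin (r + 1) → k} {a : Fin (r + 1)}, v a = 1 → v ≠ 0 := fun {v a} hv h =>
    one_ne_zero (α := k) (by rw [← hv, h]; rfl)
  have hpt : ∀ y : LefPen.Sec i ({G₁, G₂} : Set (LefPen.Form r k d)), IsClosed ({y} : Set (LefPen.Sec i ({G₁, G₂} : Set (LefPen.Form r k d)))) →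
      ∃ v j, v j = 1 ∧ Zero F v ∧ eval v G₁.1 = 0 ∧ eval v G₂.1 = 0 ∧
      (1 ≤ m → (∀ a b : k, (a ≠ 0 ∨ b ≠ 0) → ¬ BadAt F v (C a * G₁.1 + C b * G₂.1)) →
        IsRegularLocalRing ((LefPen.Sec i ({G₁, G₂} : Set (LefPen.Form r k d))).presheaf.stalk y) ∧
          ringKrullDim ((LefPen.Sec i ({G₁, G₂} : Set (LefPen.Form r k d))).presheaf.stalk y) =
            ((m + 1 - 2 : ℕ) : WithBot ℕ∞)) := fun y hy => by
    have hc : IsClosed ({I.subschemeι y} : Set X) := by
      simpa using I.subschemeι.isClosedEmbedding.isClosedMap _ hy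
    obtain ⟨j, hj⟩ := Opens.mem_iSup.mp (show i (I.subschemeι y) ∈ ⨆ j, QCohLib.stdOpen r k j by rw [QCohLib.iSup_stdOpen]; trivial)
    obtain ⟨v, hz, hvj, h1, h2, -, hiff⟩ := pairPoint m i hM G₁ G₂ j y hj hc
    exact ⟨v, j, hvj, hz, h1, h2, fun hm h => (hiff hm).2 h⟩
  have hnorm : Bad2 F G₁.1 G₂.1 → ∃ j v, v j = 1 ∧ Zero F v ∧ eval v G₁.1 = 0 ∧ eval v G₂.1 = 0 ∧
      ∃ a b : k, (a ≠ 0 ∨ b ≠ 0) ∧ BadAt F v (C a * G₁.1 + C b * G₂.1) := by
    rintro ⟨v, hv0, hz, h1, h2, a, b, hab, hb⟩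
    obtain ⟨j, hj⟩ := Function.ne_iff.1 hv0
    refine ⟨j, fun q => (v j)⁻¹ * v q, inv_mul_cancel₀ hj, fun l => ?_, ?_, ?_, a, b, hab,
      badAt_smul hF (d := d) ?_ (inv_ne_zero hj) hb⟩
    · rw [eval_smul_of_homogeneous (hF.homog l), hz l, mul_zero]
    · rw [eval_smul_of_homogeneous ((mem_homogeneousSubmodule d _).1 G₁.2), h1, mul_zero]
    · rw [eval_smul_of_homogeneous ((mem_homogeneousSubmodule d _).1 G₂.2), h2, mul_zero]
    · have hG1 := (isHomogeneous_C _ a).mul ((mem_homogeneousSubmodule d _).1 G₁.2)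
      have hG2 := (isHomogeneous_C _ b).mul ((mem_homogeneousSubmodule d _).1 G₂.2)
      rw [zero_add] at hG1 hG2
      exact hG1.add hG2
  rcases Nat.eq_zero_or_pos m with rfl | hm
  · -- curves
    constructor
    · rintro hT hB
      obtain ⟨j, v, hvj, hz, h1, h2, -⟩ := hnorm hB
      obtain ⟨y, -⟩ := exists_pairPoint 0 i hM G₁ G₂ hz hvj h1 h2
      exact (hT.resolve_left fun h => by omega).2.false y
    · intro hB
      refine Or.inr ⟨by omega, isEmpty_iff.2 fun y₀ => ?_⟩
      obtain ⟨y, -, hy⟩ := nonempty_inter_closedPoints (Z := (Set.univ : Set (LefPen.Sec i ({G₁, G₂} : Set (LefPen.Form r k d)))))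
        ⟨y₀, trivial⟩ isClosed_univ.isLocallyClosed
      obtain ⟨v, j, hvj, hz, h1, h2, -⟩ := hpt y hy
      exact hB ⟨v, hne hvj, hz, h1, h2, dependent_of_finrank hF hvj hz
        (finrank_grad hF 1 hM.dim hM.reg hz (hne hvj)) ((mem_homogeneousSubmodule d _).1 G₁.2)
        ((mem_homogeneousSubmodule d _).1 G₂.2) h1 h2⟩
  · constructor
    · rintro hT hB
      haveI := (hT.resolve_right fun h => by omega).2
      obtain ⟨j, v, hvj, hz, h1, h2, a, b, hab, hb⟩ := hnorm hB
      obtain ⟨y, hx, hyc, hxc, hv⟩ := exists_pairPoint m i hM G₁ G₂ hz hvj h1 h2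
      obtain ⟨v', -, -, -, -, hv', hiff⟩ := pairPoint m i hM G₁ G₂ j y hx hxc
      obtain rfl := OrdQuad.eq_of_ker_eval (hv.symm.trans hv')
      exact (hiff hm).1 (closedPt_of_smooth g (m + 1 - 2) y hyc) a b hab hb
    · intro hB
      refine Or.inl ⟨by omega, smooth_of_closedPts g (m + 1 - 2) fun y hy => ?_⟩
      obtain ⟨v, j, hvj, hz, h1, h2, h⟩ := hpt y hy
      exact h hm fun a b hab hb => hB ⟨v, hne hvj, hz, h1, h2, a, b, hab, hb⟩

end scheme

end LefPenLib
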