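import Groth.Agent.LefPenLib.Unique
import Groth.Agent.LefPenLib.Pair
import Mathlib

/-!
# General lines of forms through a fixed form
-/

set_option autoImplicit false
set_option linter.unusedSectionVars false
set_option linter.style.haveILetI false

universe u

open MvPolynomial CIGen OrdQuad

namespace LefPenLib

variable {k : Type u} [Field k] [IsAlgClosed k] {r d N : ℕ}

/-- A general line through a point misses a set of codimension two not containing it. -/
theorem exists_line_avoid {σ : Type} [Fintype σ] (hσ : 2 ≤ Fintype.card σ) {π g : MvPolynomial σ k} (hπ : Prime π)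
    (hg : ¬ π ∣ g) {c0 : σ → k} (h0 : eval c0 π ≠ 0) :
    ∃ R : MvPolynomial σ k, R ≠ 0 ∧ ∀ c : σ → k, eval c R ≠ 0 → ∀ t : k,
      eval (fun s => c0 s + t * c s) π = 0 → eval (fun s => c0 s + t * c s) g = 0 → False := by
  classical
  haveI : (Ideal.span {π}).IsPrime := (Ideal.span_singleton_prime hπ.ne_zero).2 hπ
  haveI : IsDomain (MvPolynomial σ k ⧸ Ideal.span {π}) := Ideal.Quotient.isDomain _
  have hgb : Ideal.Quotient.mk (Ideal.span {π}) g ≠ 0 := fun h => hg (Ideal.mem_span_singleton.1 (Ideal.Quotient.eq_zero_iff_mem.1 h))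
  let f1 := Ideal.Quotient.mk (Ideal.span {π})
  have h1 := ringKrullDim_succ_le_of_surjective f1 Ideal.Quotient.mk_surjective
    (mem_nonZeroDivisors_of_ne_zero hπ.ne_zero) (Ideal.Quotient.eq_zero_iff_mem.2 (Ideal.mem_span_singleton_self π))
  rw [MvPolynomial.ringKrullDim_of_isNoetherianRing, ringKrullDim_eq_zero_of_field, zero_add, Nat.card_eq_fintype_card] at h1
  have h2 := ringKrullDim_succ_le_of_surjective
    (Ideal.Quotient.factor (le_sup_left : Ideal.span {π} ≤ Ideal.span {π} ⊔ Ideal.span {g}))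
    (Ideal.Quotient.factor_surjective _) (mem_nonZeroDivisors_of_ne_zero hgb) (by
      rw [Ideal.Quotient.factor_mk, Ideal.Quotient.eq_zero_iff_mem]
      exact (le_sup_right : Ideal.span {g} ≤ Ideal.span {π} ⊔ Ideal.span {g}) (Ideal.mem_span_singleton_self g))
  have h3 : ringKrullDim (MvPolynomial σ k ⧸ (Ideal.span {π} ⊔ Ideal.span {g})) ≤ ((Fintype.card σ - 2 : ℕ) : WithBot ℕ∞) := by
    have h4 := le_trans (add_le_add h2 (le_refl (1 : WithBot ℕ∞))) h1
    rw [show ((Fintype.card σ : ℕ) : WithBot ℕ∞) = ((Fintype.card σ - 2 : ℕ) : WithBot ℕ∞) + 1 + 1 by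
      exact_mod_cast (by omega : Fintype.card σ = Fintype.card σ - 2 + 1 + 1)] at h4
    exact ENat.WithBot.add_le_add_one_right_iff.1 (ENat.WithBot.add_le_add_one_right_iff.1 h4)
  obtain ⟨R, hR0, hR⟩ := exists_poly_of_rank (Ideal.span {π} ⊔ Ideal.span {g}) (Fintype.card σ - 2) h3 (κ := Unit) (ρ := σ)
    (fun s x => Sum.elim (fun y => if y = s then 1 else 0) (fun _ => C (c0 s) - X s) x) (Fintype.card σ)
    (by rw [Fintype.card_unit]; omega)
  refine ⟨R, hR0, fun c hc t ht1 ht2 => hc ?_⟩
  have ht : t ≠ 0 := fun h => h0 (by simpa [h] using ht1)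
  refine hR (fun s => c0 s + t * c s) c (fun _ => t⁻¹) ?_ ?_ fun b => ?_
  · exact sup_le ((Ideal.span_singleton_le_iff_mem _).2 ht1) ((Ideal.span_singleton_le_iff_mem _).2 ht2)
  · have h : (⊤ : Submodule k (σ → k)) ≤ Submodule.span k (Set.range fun x : σ ⊕ Unit => fun b =>
        eval (fun s => c0 s + t * c s) (Sum.elim (fun y => if y = b then 1 else 0) (fun _ => C (c0 b) - X b) x)) := by
      intro z _
      rw [pi_eq_sum_univ' z]
      refine Submodule.sum_mem _ fun y _ => Submodule.smul_mem _ _ (Submodule.subset_span ⟨Sum.inl y, funext fun b => ?_⟩)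
      simp [Pi.single_apply, apply_ite (eval fun s => c0 s + t * c s), eq_comm]
    have h' := Submodule.finrank_mono h
    rwa [finrank_top, Module.finrank_fintype_fun_eq_card] at h'
  · rw [Fintype.sum_sum_type]
    simp [apply_ite (eval fun s => c0 s + t * c s), ite_mul]
    field_simp
    ring

variable {K : Type u} [Field K] [Algebra k K] {ξ : Fin (r + 1) → K} {F : Fin N → MvPolynomial (Fin (r + 1)) k}
  {e : Fin N → ℕ} {m : ℕ}

/-- A general form cuts a fixed nowhere tangent one transversally on the variety. -/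
theorem exists_generic_partner (hF : IsEqn ξ F e)
    (hdim : ∀ j, ξ j ≠ 0 → ringKrullDim (MvPolynomial (Fin (r + 1)) k ⧸ chartIdeal (k := k) ξ j) = ((m + 1 : ℕ) : WithBot ℕ∞))
    (hWr : ∀ v, Zero F v → v ≠ 0 → Module.finrank k (Submodule.span k (Set.range fun l => grad v (F l))) + (m + 1) = r)
    (hd : 1 ≤ d) {c0 : Exp r d → k} (hc0 : ¬ Bad' F (form1 c0)) :
    ∃ Φ : MvPolynomial (Exp r d) k, Φ ≠ 0 ∧ ∀ c, eval c Φ ≠ 0 → ¬ Bad2 F (form1 c0) (form1 c) := by
  classical
  set H := form1 c0
  have hHh : H.IsHomogeneous d := isHomogeneous_form1 _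
  let cd := r - (m + 1)
  have hne : ∀ {v : Fin (r + 1) → k} {a : Fin (r + 1)}, v a = 1 → v ≠ 0 := fun {v a} hv h =>
    one_ne_zero (α := k) (by rw [← hv, h]; rfl)
  have hpiece : ∀ x : {j // H ∉ chartIdeal ξ j ∧ ξ j ≠ 0} × (Fin cd → Fin N), ∃ Φ : MvPolynomial (Exp r d) k, Φ ≠ 0 ∧
      ∀ (w : Fin (r + 1) → k) (a : Exp r d → k), Zero F w → w x.1.1 = 1 → eval w H = 0 → eval w (form1 a) = 0 →
        grad w (form1 a) ∈ Submodule.span k (Set.range fun b : Option (Fin cd) => grad w (b.elim H fun b => F (x.2 b))) →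
        eval a Φ = 0 := by
    intro x
    by_cases hx : ∃ w, Zero F w ∧ w x.1.1 = 1
    swap
    · exact ⟨1, one_ne_zero, fun w a h1 h2 => absurd ⟨w, h1, h2⟩ hx⟩
    obtain ⟨w0, hw0, hw0j⟩ := hx
    have hcd : cd + (m + 1) = r := Nat.sub_add_cancel (by have := hWr w0 hw0 (hne hw0j); omega)
    obtain ⟨Φ, h0, hΦ⟩ := incidence (chartIdeal ξ x.1.1 ⊔ Ideal.span {H}) (m + 1 - 1)
      (piece_dim (hdim _ x.1.2.2) (by omega) x.1.2.1) (fun s => form1 ((LinearMap.id : (Exp r d → k) →ₗ[k] _) (Pi.single s 1)))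
      (fun b : Option (Fin cd) => b.elim H fun b => F (x.2 b)) (r + 1)
      (by rw [Fintype.card_option, Fintype.card_fin]; omega)
    refine ⟨Φ, h0, fun w a h1 h2 h3 h4 h5 => hΦ w a (sup_le (chartIdeal_le hF h1 h2) ((Ideal.span_singleton_le_iff_mem _).2 h3))
      ?_ (by rw [sum_smul_form1]; exact h4) (by rw [sum_smul_form1]; exact h5)⟩
    let p : MvPolynomial (Fin (r + 1)) k := MvPolynomial.X x.1.1 ^ (d - 1)
    have hp1 : eval w p = 1 := by simp [p, h2]
    have := le_finrank_of_injOn ⊤ ((jet w).comp (mulLin p))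
      (jspan w (fun s => form1 ((LinearMap.id : (Exp r d → k) →ₗ[k] _) (Pi.single s 1)))
        fun b : Option (Fin cd) => b.elim H fun b => F (x.2 b))
      (fun b _ h => jet_mul_lin_injective hp1 h) fun b _ => by
      obtain ⟨c, hc⟩ := exists_coords (d := d) (G := p * CIGen.lin b) (by
        have hl : (CIGen.lin b).IsHomogeneous 1 := IsHomogeneous.sum _ _ _ fun q _ => by
          simpa using (isHomogeneous_C _ (b q)).mul (isHomogeneous_X k q)
        have := ((isHomogeneous_X k x.1.1).pow (d - 1)).mul hl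
        rwa [one_mul, Nat.sub_add_cancel hd] at this)
      show jet w (p * CIGen.lin b) ∈ _
      rw [← hc]
      exact jet_mem_jspan LinearMap.id _ w rfl
    rwa [finrank_top, Module.finrank_fin_fun] at this
  choose Φ hΦ0 hΦ using hpiece
  refine ⟨∏ x, Φ x, Finset.prod_ne_zero_iff.2 fun x _ => hΦ0 x, fun c hc hB => ?_⟩
  simp only [map_prod, Finset.prod_ne_zero_iff, Finset.mem_univ, forall_true_left] at hc
  obtain ⟨v, hv0, hz, h1, h2, a, b, hab, hbad⟩ := hB
  obtain ⟨j, hj⟩ := Function.ne_iff.1 hv0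
  let w : Fin (r + 1) → k := fun q => (v j)⁻¹ * v q
  have hwj : w j = 1 := inv_mul_cancel₀ hj
  have hh : (C a * H + C b * form1 c).IsHomogeneous d := by
    have hG1 := (isHomogeneous_C _ a).mul hHh
    have hG2 := (isHomogeneous_C _ b).mul (isHomogeneous_form1 c)
    rw [zero_add] at hG1 hG2
    exact hG1.add hG2
  have hw := badAt_smul hF hh (inv_ne_zero hj) hbad
  have hwH : eval w H = 0 := by rw [eval_smul_of_homogeneous hHh, h1, mul_zero]
  have hwG : eval w (form1 c) = 0 := by rw [eval_smul_of_homogeneous (isHomogeneous_form1 c), h2, mul_zero]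
  have hgr : a • grad w H + b • grad w (form1 c) ∈ Submodule.span k (Set.range fun l => grad w (F l)) := by
    have := hw.2.2
    convert this using 1
    funext q; simp [grad, w]
  have hξ := ne_zero_of_zero hF hw.1 (j := j) fun h => one_ne_zero (hwj.symm.trans h)
  have hnc : H ∉ chartIdeal ξ j := fun hmem =>
    hc0 ⟨w, hne hwj, badAt_of_vanish hF hHh ((mem_chartIdeal_iff hHh hξ).1 hmem) hw.1⟩
  have hb : b ≠ 0 := fun hb => by
    rw [hb, zero_smul, add_zero] at hgr
    have ha : a ≠ 0 := hab.resolve_right (not_not.2 hb)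
    exact hc0 ⟨w, hne hwj, hw.1, hwH, by simpa [smul_smul, inv_mul_cancel₀ ha] using Submodule.smul_mem _ a⁻¹ hgr⟩
  have hWw : Module.finrank k (Submodule.span k (Set.range fun l => grad w (F l))) = cd := by
    have := hWr w hw.1 (hne hwj); omega
  obtain ⟨f, hf, hfspan, -⟩ := Submodule.exists_fun_fin_finrank_span_eq k (Set.range fun l => grad w (F l))
  choose S hS using hf
  let S' : Fin cd → Fin N := fun b => S (Fin.cast hWw.symm b)
  have hS' : Submodule.span k (Set.range fun b => grad w (F (S' b))) = Submodule.span k (Set.range fun l => grad w (F l)) := by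
    rw [← hfspan, ← Function.Surjective.range_comp (fun b => ⟨Fin.cast hWw b, rfl⟩ : Function.Surjective (Fin.cast hWw.symm)) f]
    exact congrArg (fun h => Submodule.span k (Set.range h)) (funext fun b => hS _)
  refine hc (⟨j, hnc, hξ⟩, S') (hΦ _ w c hw.1 hwj hwH hwG ?_)
  set U := Submodule.span k (Set.range fun b : Option (Fin cd) => grad w (b.elim H fun b => F (S' b)))
  have hWU : Submodule.span k (Set.range fun l => grad w (F l)) ≤ U := by
    rw [← hS']; exact Submodule.span_mono (Set.range_subset_iff.2 fun b => ⟨some b, rfl⟩)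
  have hHU : grad w H ∈ U := Submodule.subset_span ⟨none, rfl⟩
  have := Submodule.smul_mem U b⁻¹ (Submodule.sub_mem _ (hWU hgr) (Submodule.smul_mem U a hHU))
  rwa [add_sub_cancel_left, smul_smul, inv_mul_cancel₀ hb, one_smul] at this

/-- A prime polynomial vanishing on a set and not at a given point outside. -/
theorem exists_prime_factor {σ : Type} {P : Ideal (MvPolynomial σ k)} [P.IsPrime] {c0 : σ → k} {Ψ : MvPolynomial σ k}
    (hΨ : Ψ ∈ P) (h0 : eval c0 Ψ ≠ 0) : ∃ π : MvPolynomial σ k, Prime π ∧ π ∈ P ∧ eval c0 π ≠ 0 := by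
  induction Ψ using WfDvdMonoid.induction_on_irreducible with
  | zero => simp at h0
  | unit u hu => exact absurd (Ideal.eq_top_of_isUnit_mem _ hΨ hu) (Ideal.IsPrime.ne_top inferInstance)
  | mul a p ha hp ih =>
    rw [map_mul, mul_ne_zero_iff] at h0
    rcases Ideal.IsPrime.mem_or_mem inferInstance hΨ with h | h
    · exact ⟨p, UniqueFactorizationMonoid.irreducible_iff_prime.1 hp, h, h0.1⟩
    · exact ih h h0.2

end LefPenLib
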