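import Groth.Agent.LefPenLib.Lines
import Mathlib

/-!
# Lefschetz pencils: openness and existence
-/

set_option autoImplicit false
set_option linter.unusedSectionVars false
set_option linter.style.haveILetI false

universe u

open CategoryTheory AlgebraicGeometry TopologicalSpace MvPolynomial CIGen OrdQuad

namespace LefPenLib

variable {k : Type u} [Field k] {r d N : ℕ}

/-- Pairs of coefficient vectors. -/
abbrev Pair (r d : ℕ) : Type := Exp r d ⊕ Exp r d

/-- The coordinates of a pair of forms. -/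
def pcoords (FG : LefPen.Form r k d × LefPen.Form r k d) : Pair r d → k := Sum.elim (coords FG.1) (coords FG.2)

theorem coords_comb [IsAlgClosed k] (F G : LefPen.Form r k d) (s t : k) :
    coords (s • F + t • G) = fun e => s * coords F e + t * coords G e := funext fun e => by
  simp [coords]

theorem formOf_smul [IsAlgClosed k] (a : k) (c : Exp r d → k) : formOf (fun e => a * c e) = a • formOf c :=
  Subtype.ext (form1L.map_smul a c)

section polyfun

variable [IsAlgClosed k]

theorem isPolyFun_pair (Φ : MvPolynomial (Pair r d) k) :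
    LefPen.IsPolyFun k fun FG : LefPen.Form r k d × LefPen.Form r k d => eval (pcoords FG) Φ := by
  unfold LefPen.IsPolyFun
  induction Φ using MvPolynomial.induction_on with
  | C a =>
    have : (fun FG : LefPen.Form r k d × LefPen.Form r k d => eval (pcoords FG) (C a : MvPolynomial (Pair r d) k)) =
        algebraMap k _ a := by
      funext FG; simp
    rw [this]
    exact Subalgebra.algebraMap_mem _ a
  | add p q hp hq =>
    have := add_mem hp hq
    simpa [Pi.add_def] using this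
  | mul_X p s hp =>
    have hs : (fun FG : LefPen.Form r k d × LefPen.Form r k d => pcoords FG s) ∈ Algebra.adjoin k
        (Set.range (fun l : Module.Dual k (LefPen.Form r k d × LefPen.Form r k d) =>
          (l : LefPen.Form r k d × LefPen.Form r k d → k))) := by
      rcases s with s | s
      exacts [Algebra.subset_adjoin ⟨(coordLin s).comp (LinearMap.fst k _ _), rfl⟩,
        Algebra.subset_adjoin ⟨(coordLin s).comp (LinearMap.snd k _ _), rfl⟩]
    have := mul_mem hp hs
    simpa [Pi.mul_def] using this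

theorem exists_eval_pair {f : LefPen.Form r k d × LefPen.Form r k d → k} (hf : LefPen.IsPolyFun k f) :
    ∃ Φ : MvPolynomial (Pair r d) k, ∀ FG, f FG = eval (pcoords FG) Φ := by
  classical
  induction hf using Algebra.adjoin_induction with
  | mem x hx =>
    obtain ⟨l, rfl⟩ := hx
    obtain ⟨Φ₁, h₁⟩ := exists_eval_of_isPolyFun (f := (l.comp (LinearMap.inl k _ _) : LefPen.Form r k d →ₗ[k] k))
      (Algebra.subset_adjoin ⟨_, rfl⟩)
    obtain ⟨Φ₂, h₂⟩ := exists_eval_of_isPolyFun (f := (l.comp (LinearMap.inr k _ _) : LefPen.Form r k d →ₗ[k] k))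
      (Algebra.subset_adjoin ⟨_, rfl⟩)
    refine ⟨rename Sum.inl Φ₁ + rename Sum.inr Φ₂, fun FG => ?_⟩
    show l FG = _
    have hsplit : l FG = l (FG.1, 0) + l (0, FG.2) := by rw [← map_add, Prod.mk_add_mk, add_zero, zero_add]
    simp only [map_add, eval_rename]
    rw [hsplit]
    exact congrArg₂ (· + ·) ((h₁ FG.1).trans rfl) ((h₂ FG.2).trans rfl)
  | algebraMap a => exact ⟨C a, fun H => by simp⟩
  | add x y _ _ hx hy =>
    obtain ⟨Φ, hΦ⟩ := hx
    obtain ⟨Ψ, hΨ⟩ := hy
    exact ⟨Φ + Ψ, fun H => by simp [hΦ H, hΨ H]⟩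
  | mul x y _ _ hx hy =>
    obtain ⟨Φ, hΦ⟩ := hx
    obtain ⟨Ψ, hΨ⟩ := hy
    exact ⟨Φ * Ψ, fun H => by simp [hΦ H, hΨ H]⟩

end polyfun

variable [IsAlgClosed k] {Y : Scheme.{u}} (m : ℕ) (i : Y ⟶ CohB1.ProjSpace r k) [IsClosedImmersion i] [IrreducibleSpace Y]
  [SmoothOfRelativeDimension (m + 1) (i ≫ CohB1.ProjSpace.toSpec r k)]
  {K : Type u} [Field K] [Algebra k K] {ξ : Fin (r + 1) → K} {F : Fin N → MvPolynomial (Fin (r + 1)) k} {e : Fin N → ℕ}

/-- Tangent forms not giving a single ordinary quadratic singularity. -/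
def Tset (F : Fin N → MvPolynomial (Fin (r + 1)) k) : Set (Exp r d → k) :=
  {c | Bad' F (form1 c) ∧ ¬ LefPen.OneOrdQuad k (m + 1) i (formOf c)}

variable (hM : IsModel (m + 1) i ξ F e)

include hM in
theorem not_transversal_of_bad (H : LefPen.Form r k d) (hbad : Bad' F H.1) :
    ¬ LefPen.Transversal k (m + 1) 1 (LefPen.secToSpec i ({H} : Set (LefPen.Form r k d))) := by
  intro hT
  have hF := hM.eqn
  obtain ⟨j, v, hvj, hb⟩ := exists_normalized hF ((mem_homogeneousSubmodule d _).1 H.2) hbad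
  obtain ⟨y, hx, hyc, hxc, hv⟩ := exists_secPoint (m + 1) i hM H hb.1 hvj hb.2.1
  obtain ⟨v', -, -, -, hv', hiff⟩ := secPoint (m + 1) (by omega) i hM H j y hx hxc
  obtain rfl := eq_of_ker_eval (hv.symm.trans hv')
  haveI := (hT.resolve_right fun h => by omega).2
  exact hiff.1 (closedPt_of_smooth (LefPen.secToSpec i ({H} : Set (LefPen.Form r k d))) (m + 1 - 1) y hyc) hb

/-- Scaling a form does not change the section. -/
theorem oneOrdQuad_smul {a : k} (ha : a ≠ 0) (H : LefPen.Form r k d) :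
    LefPen.OneOrdQuad k (m + 1) i (a • H) ↔ LefPen.OneOrdQuad k (m + 1) i H := by
  have h : LefPen.secIdeal i ({a • H} : Set (LefPen.Form r k d)) = LefPen.secIdeal i ({H} : Set (LefPen.Form r k d)) := by
    refine Scheme.IdealSheafData.ext_of_iSup_eq_top (fun j => ⟨chartPre i j, (chart_affine j).preimage i⟩) ?_ fun j => ?_
    · refine top_le_iff.1 fun x _ => ?_
      obtain ⟨j, hj⟩ := Opens.mem_iSup.mp (show i x ∈ ⨆ j, QCohLib.stdOpen r k j by rw [QCohLib.iSup_stdOpen]; trivial)
      exact Opens.mem_iSup.mpr ⟨j, hj⟩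
    · rw [secIdeal_chart, secIdeal_chart, show (a • H).1 = C a * H.1 from smul_eq_C_mul _ _, map_mul,
        Ideal.span_singleton_mul_left_unit ((ha.isUnit.map C).map (chartHom i j))]
  let P : Y.IdealSheafData → Prop := fun I => ∃ y : I.subscheme,
    {y' | LefPen.SmoothAt (I.subschemeι ≫ i ≫ CohB1.ProjSpace.toSpec r k) y'} = ({y}ᶜ : Set I.subscheme) ∧
      LefPen.IsOrdQuadSing k (m + 1 - 1) (I.subschemeι ≫ i ≫ CohB1.ProjSpace.toSpec r k) y
  exact iff_of_eq (congrArg P h)

include hM in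
theorem exists_idx : ∃ j, ξ j ≠ 0 := by
  obtain ⟨j, hj⟩ := Opens.mem_iSup.mp (show i (genericPoint Y) ∈ ⨆ j, QCohLib.stdOpen r k j by rw [QCohLib.iSup_stdOpen]; trivial)
  exact ⟨j, hM.ne j hj⟩

include hM in
theorem finrank_eq : ∀ v, Zero F v → v ≠ 0 →
    Module.finrank k (Submodule.span k (Set.range fun l => grad v (F l))) + (m + 1) = r :=
  fun _ hv h0 => finrank_grad hM.eqn (m + 1) hM.dim hM.reg hv h0

include hM in
theorem r_pos : m + 1 ≤ r := by
  obtain ⟨j, hj⟩ := exists_idx m i hM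
  obtain ⟨v, hv, hvj⟩ := exists_zero hM.eqn hj
  have := finrank_eq m i hM v hv (fun h => one_ne_zero (α := k) (by rw [← hvj, h]; rfl))
  omega

include hM in
theorem D_closed : PolyClosed {c : Exp r d → k | Bad' F (form1 c)} := by
  intro c hc
  have hW : ∀ v, Zero F v → v ≠ 0 → Module.finrank k (Submodule.span k (Set.range fun l => grad v (F l))) = r - (m + 1) :=
    fun v hv h0 => by have := finrank_eq m i hM v hv h0; omega
  obtain ⟨Φ, h0, hΦ⟩ := bad_closed hM.eqn _ hW c hc
  exact ⟨Φ, h0, fun q hq => by_contra fun h => hΦ q h hq⟩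

include hM in
theorem T_closed : PolyClosed (Tset (d := d) m i F) := by
  intro c hc
  by_cases hb : Bad' F (form1 c)
  · have hone : LefPen.OneOrdQuad k (m + 1) i (formOf c) := by_contra fun h => hc ⟨hb, h⟩
    obtain ⟨f, hf, hf0, hf'⟩ := oneOrdQuad_open m i (formOf c) hone
    obtain ⟨Φ, hΦ⟩ := exists_eval_of_isPolyFun hf
    refine ⟨Φ, ?_, fun q hq => by_contra fun h => hq.2 (hf' _ (not_transversal_of_bad m i hM _ hq.1) ?_)⟩
    · rw [hΦ, coords_formOf] at hf0
      exact hf0
    · rw [hΦ, coords_formOf]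
      exact h
  · obtain ⟨Φ, h0, hΦ⟩ := D_closed m i hM c hb
    exact ⟨Φ, h0, fun q hq => hΦ q hq.1⟩

include hM in
theorem T_cone {a : k} (ha : a ≠ 0) {c : Exp r d → k} (hc : c ∈ Tset m i F) : (fun e => a * c e) ∈ Tset m i F := by
  refine ⟨?_, fun h => hc.2 ?_⟩
  · obtain ⟨v, hv, hz, h0, hg⟩ := hc.1
    have e1 : form1 (fun e => a * c e) = C a * form1 c := (form1L.map_smul a c).trans (smul_eq_C_mul _ _)
    refine ⟨v, hv, hz, by rw [e1, map_mul, h0, mul_zero], ?_⟩
    rw [show grad v (form1 fun e => a * c e) = a • grad v (form1 c) by funext q; simp [grad, e1]]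
    exact Submodule.smul_mem _ a hg
  · rw [formOf_smul] at h
    exact (oneOrdQuad_smul m i ha _).1 h

/-- The four conditions on a pair. -/
structure Good (F : Fin N → MvPolynomial (Fin (r + 1)) k) (a b : Exp r d → k) : Prop where
  indep : ∀ s t : k, (fun e => s * a e + t * b e) = 0 → s = 0 ∧ t = 0
  base : ¬ Bad2 F (form1 a) (form1 b)
  member : ∀ s t : k, (s ≠ 0 ∨ t ≠ 0) → (fun e => s * a e + t * b e) ∉ Tset m i F
  fin : ∃ t : k, ¬ Bad' F (form1 fun e => a e + t * b e)

include hM in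
theorem pencil_of_good {G₁ G₂ : LefPen.Form r k d} (h : Good m i F (coords G₁) (coords G₂)) :
    LefPen.IsLefschetzPencil k (m + 1) i d G₁ G₂ := by
  classical
  obtain ⟨hind, hbase, hmem, t0, ht0⟩ := h
  have hcomb : ∀ t : k, coords (G₁ + t • G₂) = fun e => coords G₁ e + t * coords G₂ e := fun t => by
    simpa using coords_comb G₁ G₂ 1 t
  refine ⟨LinearIndependent.pair_iff.2 fun s t hst => hind s t ?_, (transversal_pair_iff m i hM G₁ G₂).2 ?_, ?_, ?_⟩
  · rw [← coords_comb, hst]; funext e; simp [coords]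
  · rwa [form1_coords, form1_coords] at hbase
  · obtain ⟨Φ, h0, hΦ⟩ := D_closed m i hM _ ht0
    let P : Polynomial k := MvPolynomial.aeval (fun e => Polynomial.C (coords G₁ e) + Polynomial.X * Polynomial.C (coords G₂ e)) Φ
    have hP : ∀ t, P.eval t = eval (fun e => coords G₁ e + t * coords G₂ e) Φ := fun t => by
      rw [← Polynomial.coe_aeval_eq_eval]
      simp only [P, comp_aeval_apply]
      simp [aeval_eq_eval]
      exact congrArg (fun f : Exp r d → k => eval f _) (funext fun e => by ring)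
    have hP0 : P ≠ 0 := fun h => h0 (by rw [← hP, h, Polynomial.eval_zero])
    refine (Polynomial.finite_setOfPred_isRoot hP0).subset fun t ht => ?_
    have hb := bad_of_not_transversal i m hM _ ht
    rw [← form1_coords (G₁ + t • G₂), hcomb] at hb
    show P.eval t = 0
    rw [hP]; exact hΦ _ hb
  · intro H hH hnt
    have hb := bad_of_not_transversal i m hM _ hnt
    rw [← form1_coords H] at hb
    by_contra hone
    have hT : coords H ∈ Tset m i F := ⟨hb, by rwa [formOf_coords]⟩
    rcases hH with hH | ⟨t, rfl⟩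
    · rw [Set.mem_singleton_iff] at hH
      refine hmem 0 1 (Or.inr one_ne_zero) ?_
      simpa [hH] using hT
    · refine hmem 1 t (Or.inl one_ne_zero) ?_
      rw [hcomb] at hT
      simpa using hT

include hM in
theorem good_of_pencil {G₁ G₂ : LefPen.Form r k d} (h : LefPen.IsLefschetzPencil k (m + 1) i d G₁ G₂) :
    Good m i F (coords G₁) (coords G₂) := by
  classical
  obtain ⟨hli, htr, hfin, hmem⟩ := h
  refine ⟨fun s t hst => LinearIndependent.pair_iff.1 hli s t ?_, ?_, fun s t hst hT => ?_, ?_⟩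
  · rw [← formOf_coords (s • G₁ + t • G₂), coords_comb, hst]
    exact Subtype.ext (form1L (r := r) (d := d) (k := k)).map_zero
  · rw [form1_coords, form1_coords]
    exact (transversal_pair_iff m i hM G₁ G₂).1 htr
  · obtain ⟨H, a, ha, hH, heq⟩ : ∃ H, ∃ a : k, a ≠ 0 ∧ H ∈ LefPen.members k G₁ G₂ ∧ s • G₁ + t • G₂ = a • H := by
      by_cases hs : s = 0
      · exact ⟨G₂, t, hst.resolve_left (not_not.2 hs), Or.inl rfl, by rw [hs, zero_smul, zero_add]⟩
      · exact ⟨G₁ + (t / s) • G₂, s, hs, Or.inr ⟨t / s, rfl⟩, by rw [smul_add, smul_smul, mul_div_cancel₀ _ hs]⟩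
    have hc : (fun e => a * coords H e) = fun e => s * coords G₁ e + t * coords G₂ e := by
      rw [← coords_comb, heq]; funext e; simp [coords]
    have hT' := T_cone m i hM (inv_ne_zero ha) hT
    rw [show (fun e => a⁻¹ * (s * coords G₁ e + t * coords G₂ e)) = coords H from funext fun e => by
      rw [← congrFun hc e, inv_mul_cancel_left₀ ha]] at hT'
    have hb := hT'.1
    rw [form1_coords] at hb
    exact hT'.2 (by rw [formOf_coords]; exact hmem H hH (not_transversal_of_bad m i hM H hb))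
  · obtain ⟨t, ht⟩ := hfin.infinite_compl.nonempty
    refine ⟨t, fun hb => ht (not_transversal_of_bad m i hM (G₁ + t • G₂) ?_)⟩
    rw [← form1_coords (G₁ + t • G₂), show coords (G₁ + t • G₂) = fun e => coords G₁ e + t * coords G₂ e by
      simpa using coords_comb G₁ G₂ 1 t]
    exact hb

include hM in
/-- Bad pairs form a closed set. -/
theorem bad2_closed : PolyClosed {p : Pair r d → k | Bad2 F (form1 fun e => p (Sum.inl e)) (form1 fun e => p (Sum.inr e))} := by
  classical
  have hF := hM.eqn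
  obtain ⟨ι, _, E, ed, hEh, hiff⟩ := exists_bad_eqns (d := d) hF (r - (m + 1))
    (fun v hv h0 => by have := finrank_eq m i hM v hv h0; omega)
  let σ := Pair r d ⊕ Fin (1 + 1)
  let A := MvPolynomial (σ ⊕ Fin (r + 1)) k
  let c1 : Exp r d → A := fun e => X (Sum.inl (Sum.inl (Sum.inl e)))
  let c2 : Exp r d → A := fun e => X (Sum.inl (Sum.inl (Sum.inr e)))
  let sg : Fin (1 + 1) → A := fun q => X (Sum.inl (Sum.inr q))
  let xg : Fin (r + 1) → A := fun q => X (Sum.inr q)
  let cg : Exp r d → A := fun e => sg 0 * c1 e + sg 1 * c2 e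
  let eqs : Fin N ⊕ (Bool ⊕ ι) → A := Sum.elim (fun l => aeval xg (F l))
    (Sum.elim (fun b => eval xg (formR (cond b c1 c2))) fun l => evE (E l) cg xg)
  have hev : ∀ (p : Pair r d → k) (s : Fin (1 + 1) → k) (v : Fin (r + 1) → k),
      (∀ x, eval (Sum.elim (Sum.elim p s) v) (eqs x) = 0) ↔
        Zero F v ∧ (eval v (form1 fun e => p (Sum.inr e)) = 0 ∧ eval v (form1 fun e => p (Sum.inl e)) = 0) ∧
        ∀ l, eval v (MvPolynomial.map (eval fun e => s 0 * p (Sum.inl e) + s 1 * p (Sum.inr e)) (E l)) = 0 := by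
    intro p s v
    have hEk : ∀ (c : Exp r d → k) (l : ι), evE (E l) c v = eval v (MvPolynomial.map (eval c) (E l)) := fun c l => by
      rw [← aeval_eq_eval, ← evE_algebraMap]
      rfl
    have hf : ∀ c : Exp r d → k, formR c = form1 c := fun _ => rfl
    have he : ∀ q : A, eval (Sum.elim (Sum.elim p s) v) q = aeval (Sum.elim (Sum.elim p s) v) q := fun _ => rfl
    simp only [he, eqs, Sum.forall, Bool.forall_bool, cond, Sum.elim_inl, Sum.elim_inr, map_evE,
      map_aeval_alg, map_eval_alg, map_formR, cg, map_add, map_mul, c1, c2, sg, xg, aeval_X, hf]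
    simp only [aeval_eq_eval, hEk]
    rfl
  have hcomb : ∀ (p : Pair r d → k) (s t : k),
      form1 (fun e => s * p (Sum.inl e) + t * p (Sum.inr e)) =
        C s * form1 (fun e => p (Sum.inl e)) + C t * form1 (fun e => p (Sum.inr e)) := fun p s t => by
    rw [← smul_eq_C_mul, ← smul_eq_C_mul]
    show form1L _ = s • form1L _ + t • form1L _
    rw [← map_smul, ← map_smul, ← map_add]
    rfl
  have h1 := (polyClosed_zeros eqs).proj (fun c v a _ h => by
    obtain ⟨p, s, rfl⟩ : ∃ p s, c = Sum.elim p s := ⟨c ∘ Sum.inl, c ∘ Sum.inr, (Sum.elim_comp_inl_inr c).symm⟩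
    obtain ⟨hz, ⟨hg1, hg2⟩, hE⟩ := (hev p s v).1 h
    refine (hev p s _).2 ⟨fun l => by rw [eval_smul_of_homogeneous (hF.homog l), hz l, mul_zero],
      ⟨by rw [eval_smul_of_homogeneous (isHomogeneous_form1 _), hg1, mul_zero],
        by rw [eval_smul_of_homogeneous (isHomogeneous_form1 _), hg2, mul_zero]⟩, fun l => ?_⟩
    rw [eval_smul_of_homogeneous ((hEh l).map _), hE l, mul_zero])
  have h2 := h1.proj (fun p s a _ h => by
    obtain ⟨v, hv, h⟩ := h
    obtain ⟨hz, hg, hE⟩ := (hev p s v).1 h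
    have hb := (hiff _ v hv).2 hE
    refine ⟨v, hv, (hev p _ v).2 ⟨hz, hg, (hiff _ v hv).1 ?_⟩⟩
    rw [hcomb] at hb ⊢
    refine ⟨hz, by simp [hg.1, hg.2], ?_⟩
    have := Submodule.smul_mem _ a hb.2.2
    convert this using 1
    funext q; simp [grad]; ring)
  convert h2 using 1
  ext p
  constructor
  · rintro ⟨v, hv, hz, hg1, hg2, a, b, hab, hb⟩
    refine ⟨![a, b], fun h => ?_, v, hv, (hev p _ v).2 ⟨hz, ⟨hg2, hg1⟩, (hiff _ v hv).1 ?_⟩⟩
    · exact hab.elim (fun ha => ha (congrFun h 0)) fun hb => hb (congrFun h 1)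
    · simpa [hcomb] using hb
  · rintro ⟨s, hs, v, hv, h⟩
    obtain ⟨hz, hg, hE⟩ := (hev p s v).1 h
    refine ⟨v, hv, hz, hg.2, hg.1, s 0, s 1, ?_, by simpa [hcomb] using (hiff _ v hv).2 hE⟩
    by_contra hc
    push Not at hc
    exact hs (funext fun q => by fin_cases q <;> simp [hc.1, hc.2])

include hM in
/-- Lefschetz pencils form an open set of pairs. -/
theorem exists_good_open {a b : Exp r d → k} (h : Good m i F a b) :
    ∃ Φ : MvPolynomial (Pair r d) k, eval (Sum.elim a b) Φ ≠ 0 ∧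
      ∀ p : Pair r d → k, eval p Φ ≠ 0 → Good m i F (fun e => p (Sum.inl e)) fun e => p (Sum.inr e) := by
  classical
  obtain ⟨hind, hbase, hmem, t0, ht0⟩ := h
  let A := MvPolynomial (Pair r d ⊕ Fin (1 + 1)) k
  let g : Exp r d → A := fun e => X (Sum.inr 0) * X (Sum.inl (Sum.inl e)) + X (Sum.inr 1) * X (Sum.inl (Sum.inr e))
  have hg : ∀ (p : Pair r d → k) (s : Fin (1 + 1) → k),
      (fun e => eval (Sum.elim p s) (g e)) = fun e => s 0 * p (Sum.inl e) + s 1 * p (Sum.inr e) := fun p s =>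
    funext fun e => by simp [g]
  have hlin : ∀ (c : Pair r d → k) (v : Fin (1 + 1) → k) (a : k),
      (fun e => eval (Sum.elim c fun q => a * v q) (g e)) = fun e => a * (fun e => eval (Sum.elim c v) (g e)) e := fun c v a =>
    funext fun e => by simp [g]; ring
  have hz : PolyClosed ({0} : Set (Exp r d → k)) := fun p hp => by
    obtain ⟨e, he⟩ := Function.ne_iff.1 hp
    exact ⟨X e, by simpa using he, fun q hq => by rw [Set.mem_singleton_iff.1 hq]; simp⟩
  have hTp := ((T_closed m i hM).preimage g).proj (fun c v a ha h => by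
    show (fun e => eval (Sum.elim c fun q => a * v q) (g e)) ∈ Tset m i F
    rw [hlin]; exact T_cone m i hM ha h)
  have hIp := (hz.preimage g).proj (fun c v a ha h => by
    show (fun e => eval (Sum.elim c fun q => a * v q) (g e)) ∈ ({0} : Set (Exp r d → k))
    rw [hlin, Set.mem_singleton_iff.1 h]; funext e; simp)
  have hne : ∀ {s : Fin (1 + 1) → k}, s ≠ 0 → s 0 ≠ 0 ∨ s 1 ≠ 0 := fun {s} hs => by
    by_contra hc
    push Not at hc
    exact hs (funext fun q => by fin_cases q <;> simp [hc.1, hc.2])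
  obtain ⟨Φ1, h1, h1'⟩ := hTp (Sum.elim a b) (by
    rintro ⟨s, hs, hT⟩
    refine hmem (s 0) (s 1) (hne hs) ?_
    have hT' : (fun e => eval (Sum.elim (Sum.elim a b) s) (g e)) ∈ Tset m i F := hT
    rwa [hg] at hT')
  obtain ⟨Φ2, h2, h2'⟩ := hIp (Sum.elim a b) (by
    rintro ⟨s, hs, hT⟩
    have hT' : (fun e => eval (Sum.elim (Sum.elim a b) s) (g e)) = 0 := hT
    rw [hg] at hT'
    obtain ⟨hs0, hs1⟩ := hind _ _ hT'
    exact hs (funext fun q => by fin_cases q <;> assumption))
  obtain ⟨Φ3, h3, h3'⟩ := bad2_closed m i hM (Sum.elim a b) hbase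
  obtain ⟨Φ4, h4, h4'⟩ := ((D_closed m i hM).preimage fun e : Exp r d =>
    (X (Sum.inl e) + C t0 * X (Sum.inr e) : MvPolynomial (Pair r d) k)) (Sum.elim a b) (by simpa using ht0)
  refine ⟨Φ1 * Φ2 * Φ3 * Φ4, by simp [map_mul, h1, h2, h3, h4], fun p hp => ?_⟩
  simp only [map_mul, mul_ne_zero_iff] at hp
  obtain ⟨⟨⟨hp1, hp2⟩, hp3⟩, hp4⟩ := hp
  refine ⟨fun s t hst => ?_, fun hb => hp3 (h3' p hb), fun s t hst hT => hp1 (h1' p ⟨![s, t], ?_, ?_⟩),
    t0, fun hb => hp4 (h4' p (by simpa using hb))⟩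
  · by_contra hc
    refine hp2 (h2' p ⟨![s, t], fun h => hc ⟨congrFun h 0, congrFun h 1⟩, ?_⟩)
    show (fun e => eval (Sum.elim p ![s, t]) (g e)) = 0
    rw [hg]; simpa using hst
  · exact fun h => hst.elim (fun hs => hs (congrFun h 0)) fun ht => ht (congrFun h 1)
  · show (fun e => eval (Sum.elim p ![s, t]) (g e)) ∈ Tset m i F
    rw [hg]; simpa using hT

include hM in
/-- General lines through a nowhere tangent form give Lefschetz pencils. -/
theorem exists_good_partner (hd : 1 ≤ d) {a : Exp r d → k} (ha : ¬ Bad' F (form1 a))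
    (hgen : ∀ π : MvPolynomial (Exp r d) k, Prime π → (∀ c, Bad' F (form1 c) → eval c π = 0) → eval a π ≠ 0 →
      ∃ g : MvPolynomial (Exp r d) k, ¬ π ∣ g ∧ ∀ c ∈ Tset m i F, eval c g = 0) :
    ∃ Φ : MvPolynomial (Exp r d) k, Φ ≠ 0 ∧ ∀ b, eval b Φ ≠ 0 → Good m i F a b := by
  classical
  have hF := hM.eqn
  obtain ⟨j, hξj⟩ := exists_idx m i hM
  obtain ⟨v0, hv0, hv0j⟩ := exists_zero hF hξj
  have hr := r_pos m i hM
  let P : Ideal (MvPolynomial (Exp r d) k) := MvPolynomial.vanishingIdeal k {c : Exp r d → k | Bad' F (form1 c)}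
  have hPmem : ∀ Φ, Φ ∈ P ↔ ∀ c, Bad' F (form1 c) → eval c Φ = 0 := fun Φ => by
    rw [mem_vanishingIdeal_iff]
    simp only [Set.mem_ofPred_eq, aeval_eq_eval]
  haveI : P.IsPrime := ⟨fun h => by
    have h1 := (hPmem 1).1 (h ▸ trivial) 0 ⟨v0, fun h => one_ne_zero (α := k) (by rw [← hv0j, h]; rfl), hv0,
      by simp [form1], by
        rw [show form1 (0 : Exp r d → k) = 0 by simp [form1], grad_zero]; exact Submodule.zero_mem _⟩
    simp at h1, fun {Φ Ψ} h => by
      rw [hPmem, hPmem]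
      exact bad_irreducible hF hd Φ Ψ fun c hc => by rw [← map_mul]; exact (hPmem _).1 h c hc⟩
  obtain ⟨Ψ, hΨ0, hΨ⟩ := D_closed m i hM a ha
  obtain ⟨π, hπ, hπP, hπa⟩ := exists_prime_factor ((hPmem Ψ).2 hΨ) hΨ0
  obtain ⟨g, hg, hgT⟩ := hgen π hπ ((hPmem π).1 hπP) hπa
  have hcard : r + 1 ≤ Fintype.card (Exp r d) := by
    simpa using Fintype.card_le_of_injective _ (slot_injective hd (0 : Fin (r + 1)))
  obtain ⟨R, hR0, hR⟩ := exists_line_avoid (by omega) hπ hg hπa
  obtain ⟨Φp, hΦp0, hΦp⟩ := exists_generic_partner (m := m) hF hM.dim (finrank_eq m i hM) hd ha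
  obtain ⟨e1, he1⟩ : ∃ e, a e ≠ 0 := by
    by_contra hc
    push Not at hc
    refine ha ⟨v0, fun h => one_ne_zero (α := k) (by rw [← hv0j, h]; rfl), hv0, ?_⟩
    rw [show form1 a = 0 by simp [form1, hc]]
    exact ⟨by simp, by rw [grad_zero]; exact Submodule.zero_mem _⟩
  obtain ⟨e2, he2⟩ := Fintype.exists_ne_of_one_lt_card (by omega : 1 < Fintype.card (Exp r d)) e1
  let Λ : MvPolynomial (Exp r d) k := X e2 * C (a e1) - X e1 * C (a e2)
  have hΛ : Λ ≠ 0 := fun h => he1 (by
    have := congrArg (eval fun e => if e = e2 then (1 : k) else 0) h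
    simpa [Λ, he2.symm] using this)
  refine ⟨R * Φp * π * Λ, mul_ne_zero (mul_ne_zero (mul_ne_zero hR0 hΦp0) hπ.ne_zero) hΛ, fun b hb => ?_⟩
  simp only [map_mul, mul_ne_zero_iff] at hb
  obtain ⟨⟨⟨hbR, hbp⟩, hbπ⟩, hbΛ⟩ := hb
  refine ⟨fun s t hst => ?_, hΦp b hbp, fun s t hst hT => ?_, 0, by simpa using ha⟩
  · have h1 := congrFun hst e1
    have h2 := congrFun hst e2
    simp only [Pi.zero_apply] at h1 h2
    have ht : t = 0 := by
      refine (mul_eq_zero.1 (show t * eval b Λ = 0 from ?_)).resolve_right hbΛ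
      simp only [Λ, map_sub, map_mul, eval_X, eval_C]
      linear_combination a e1 * h2 - a e2 * h1
    refine ⟨?_, ht⟩
    rw [ht, zero_mul, add_zero] at h1
    exact (mul_eq_zero.1 h1).resolve_right he1
  · by_cases hs : s = 0
    · have ht : t ≠ 0 := hst.resolve_left (not_not.2 hs)
      have h := T_cone m i hM (inv_ne_zero ht) hT
      rw [show (fun e => t⁻¹ * (s * a e + t * b e)) = b from funext fun e => by
        rw [hs, zero_mul, zero_add, inv_mul_cancel_left₀ ht]] at h
      exact hbπ ((hPmem π).1 hπP b h.1)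
    · have h := T_cone m i hM (inv_ne_zero hs) hT
      rw [show (fun e => s⁻¹ * (s * a e + t * b e)) = fun e => a e + t / s * b e from funext fun e => by
        field_simp] at h
      exact hR b hbR (t / s) ((hPmem π).1 hπP _ h.1) (hgT _ h)

section results

variable (r)

/-- The pairs spanning Lefschetz pencils form an open set. -/
theorem isZOpen_pencils (d : ℕ) :
    LefPen.IsZOpen k {FG : LefPen.Form r k d × LefPen.Form r k d | LefPen.IsLefschetzPencil k (m + 1) i d FG.1 FG.2} := by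
  intro FG hFG
  obtain ⟨K, _, _, ξ, N, F, e, hM⟩ := exists_isModel (m + 1) i
  obtain ⟨Φ, h0, hΦ⟩ := exists_good_open m i hM (good_of_pencil m i hM hFG)
  exact ⟨_, isPolyFun_pair Φ, h0, fun w hw => pencil_of_good m i hM (hΦ _ hw)⟩

/-- For `d ≥ 2` the embedding is a Lefschetz embedding. -/
theorem isLefschetzEmb (d : ℕ) (hd : 2 ≤ d) : LefPen.IsLefschetzEmb k (m + 1) i d := by
  classical
  obtain ⟨K, _, _, ξ, N, F, e, hM⟩ := exists_isModel (m + 1) i
  have hF := hM.eqn
  obtain ⟨Φd, hΦd0, hΦd⟩ := bad_proper (d := d) hF (by omega) (m + 1) hM.dim (finrank_eq m i hM)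
  obtain ⟨a, ha⟩ : ∃ a : Exp r d → k, eval a Φd ≠ 0 := by
    by_contra hall
    push Not at hall
    exact hΦd0 (MvPolynomial.funext fun a => by rw [hall a, map_zero])
  obtain ⟨c, j0, v0, hj0, hb0, hnd, hnv, hu⟩ :=
    exists_one_point (d := d) hF hM.dim hM.reg (finrank_eq m i hM) (exists_idx m i hM) hd
  have hone : LefPen.OneOrdQuad k (m + 1) i (formOf c) := oneOrdQuad_of_point i m hM (formOf c) hj0 hb0 hnv hnd hu
  have hbad : Bad' F (form1 c) := ⟨v0, fun h => one_ne_zero (α := k) (by rw [← hj0, h]; rfl), hb0⟩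
  obtain ⟨f, hf, hf0, hf'⟩ := oneOrdQuad_open m i (formOf c) hone
  obtain ⟨g, hg⟩ := exists_eval_of_isPolyFun hf
  obtain ⟨Φ, hΦ0, hΦ⟩ := exists_good_partner m i hM (by omega : 1 ≤ d) (fun h => ha (hΦd a h)) fun π _ hπ _ => by
    refine ⟨g, fun ⟨q, hq⟩ => ?_, fun x hx => by_contra fun h => hx.2 (hf' _ (not_transversal_of_bad m i hM _ hx.1) ?_)⟩
    · rw [hg, coords_formOf, hq, map_mul, hπ c hbad, zero_mul] at hf0
      exact hf0 rfl
    · rw [hg, coords_formOf]; exact h
  obtain ⟨b, hb⟩ : ∃ b : Exp r d → k, eval b Φ ≠ 0 := by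
    by_contra hall
    push Not at hall
    exact hΦ0 (MvPolynomial.funext fun b => by rw [hall b, map_zero])
  obtain ⟨Θ, hΘ0, hΘ⟩ := exists_good_open m i hM (hΦ b hb)
  refine ⟨_, isPolyFun_pair Θ, ⟨(formOf a, formOf b), ?_⟩, fun w hw => pencil_of_good m i hM (hΘ _ hw)⟩
  simpa [pcoords, coords_formOf] using hΘ0

/-- Through a transversal form pass general Lefschetz pencils. -/
theorem isGeneric_through (d : ℕ) (hd : 1 ≤ d) (hL : LefPen.IsLefschetzEmb k (m + 1) i d) (H₀ : LefPen.Form r k d)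
    (hH₀ : LefPen.Transversal k (m + 1) 1 (LefPen.secToSpec i ({H₀} : Set (LefPen.Form r k d)))) :
    LefPen.IsGeneric k {G : LefPen.Form r k d | LefPen.IsLefschetzPencil k (m + 1) i d H₀ G} := by
  classical
  obtain ⟨K, _, _, ξ, N, F, e, hM⟩ := exists_isModel (m + 1) i
  have ha : ¬ Bad' F (form1 (coords H₀)) := fun h => not_transversal_of_bad m i hM H₀ (by rwa [form1_coords] at h) hH₀
  obtain ⟨Φ, hΦ0, hΦ⟩ := exists_good_partner m i hM hd ha fun π hπ hπP _ => by
    by_cases hP : ∀ q : MvPolynomial (Exp r d) k, (∀ c, Bad' F (form1 c) → eval c q = 0) → π ∣ q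
    swap
    · push Not at hP
      obtain ⟨q, hq, hnd⟩ := hP
      exact ⟨q, hnd, fun c hc => hq c hc.1⟩
    -- the tangent forms fill the zeros of `π`; a general pencil meets them
    have hD : ∀ c, eval c π = 0 → Bad' F (form1 c) := fun c hc => by
      by_contra hn
      obtain ⟨q, h0, hq⟩ := D_closed m i hM c hn
      obtain ⟨q', rfl⟩ := hP q hq
      exact h0 (by rw [map_mul, hc, zero_mul])
    obtain ⟨f, hf, ⟨FG0, hFG0⟩, hfS⟩ := hL
    obtain ⟨Θ, hΘ⟩ := exists_eval_pair hf
    let D : MvPolynomial (Pair r d) k := bind₁ (fun e => X (Sum.inl e) + X (Sum.inr e)) π - rename Sum.inl π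
    have hD0 : D ≠ 0 := fun h => hπ.not_isUnit (by
      have hconst : ∀ z : Exp r d → k, eval z π = eval 0 π := fun z => by
        have h' := congrArg (eval (Sum.elim 0 z)) h
        simp only [D, map_sub, eval_rename, Sum.elim_comp_inl, map_zero, sub_eq_zero] at h'
        rw [← h', show eval (Sum.elim (0 : Exp r d → k) z) (bind₁ (fun e => X (Sum.inl e) + X (Sum.inr e)) π) =
          eval (fun e => eval (Sum.elim (0 : Exp r d → k) z) (X (Sum.inl e) + X (Sum.inr e))) π from
            eval₂Hom_bind₁ (RingHom.id k) _ _ π]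
        congr 2
        funext e
        simp
      rw [MvPolynomial.funext (p := π) (q := C (eval 0 π)) fun z => by rw [hconst z, eval_C]]
      refine (isUnit_iff_ne_zero.2 fun h0 => hπ.ne_zero ?_).map C
      exact MvPolynomial.funext fun z => by rw [hconst z, h0, map_zero])
    have hΘ0 : Θ ≠ 0 := fun h => hFG0 (by rw [hΘ, h, map_zero])
    obtain ⟨p, hp⟩ : ∃ p : Pair r d → k, eval p (Θ * D) ≠ 0 := by
      by_contra hall
      push Not at hall
      exact mul_ne_zero hΘ0 hD0 (MvPolynomial.funext fun p => by rw [hall p, map_zero])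
    rw [map_mul, mul_ne_zero_iff] at hp
    let G₁ : LefPen.Form r k d := formOf fun e => p (Sum.inl e)
    let G₂ : LefPen.Form r k d := formOf fun e => p (Sum.inr e)
    have hpc : pcoords (G₁, G₂) = p := by
      funext x; cases x <;> simp [pcoords, G₁, G₂, coords_formOf]
    have hpen : LefPen.IsLefschetzPencil k (m + 1) i d G₁ G₂ := hfS (G₁, G₂) (by rw [hΘ, hpc]; exact hp.1)
    let Pt : Polynomial k :=
      MvPolynomial.aeval (fun e => Polynomial.C (p (Sum.inl e)) + Polynomial.X * Polynomial.C (p (Sum.inr e))) π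
    have hPt : ∀ t, Pt.eval t = eval (fun e => p (Sum.inl e) + t * p (Sum.inr e)) π := fun t => by
      rw [← Polynomial.coe_aeval_eq_eval]
      simp only [Pt, comp_aeval_apply]
      simp [aeval_eq_eval]
      exact congrArg (fun f : Exp r d → k => eval f _) (funext fun e => by ring)
    have hdeg : Pt.degree ≠ 0 := fun h0 => hp.2 (by
      have hC := Polynomial.eq_C_of_degree_eq_zero h0
      have e0 := hPt 0
      have e1 := hPt 1
      rw [hC, Polynomial.eval_C] at e0 e1
      simp only [D, map_sub, eval_rename]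
      rw [show eval p (bind₁ (fun e => X (Sum.inl e) + X (Sum.inr e)) π) =
        eval (fun e => eval p (X (Sum.inl e) + X (Sum.inr e))) π from eval₂Hom_bind₁ (RingHom.id k) _ _ π, sub_eq_zero]
      simp only [map_add, eval_X]
      simp only [zero_mul, add_zero] at e0
      simp only [one_mul] at e1
      rw [← e1, e0]
      rfl)
    obtain ⟨t, ht⟩ := IsAlgClosed.exists_root Pt hdeg
    have hbad := hD _ (by rw [← hPt]; exact ht)
    have hone := hpen.2.2.2 (formOf fun e => p (Sum.inl e) + t * p (Sum.inr e)) (Or.inr ⟨t, ?_⟩)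
      (not_transversal_of_bad m i hM _ hbad)
    · obtain ⟨f', hf', hf0, hf''⟩ := oneOrdQuad_open m i _ hone
      obtain ⟨g, hg⟩ := exists_eval_of_isPolyFun hf'
      refine ⟨g, fun ⟨q, hq⟩ => ?_, fun x hx => by_contra fun h => hx.2 (hf'' _ (not_transversal_of_bad m i hM _ hx.1) ?_)⟩
      · rw [hg, coords_formOf, hq, map_mul, hπP _ hbad, zero_mul] at hf0
        exact hf0 rfl
      · rw [hg, coords_formOf]; exact h
    · show G₁ + t • G₂ = _
      rw [← formOf_coords (G₁ + t • G₂)]
      congr 1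
      simpa [G₁, G₂, coords_formOf] using coords_comb G₁ G₂ 1 t
  obtain ⟨b, hb⟩ : ∃ b : Exp r d → k, eval b Φ ≠ 0 := by
    by_contra hall
    push Not at hall
    exact hΦ0 (MvPolynomial.funext fun b => by rw [hall b, map_zero])
  exact ⟨_, isPolyFun_eval Φ, ⟨formOf b, by simpa [coords_formOf] using hb⟩,
    fun G hG => pencil_of_good m i hM (hΦ _ hG)⟩

end results

end LefPenLib
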