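import Groth.Agent.LefPenLib.Closed
import Groth.Agent.OrdQuadLib.Open
import Groth.Agent.OrdQuadLib.Exists
import Mathlib

/-!
# Forms with a nondegenerate singularity at a given point
-/

set_option autoImplicit false
set_option linter.unusedSectionVars false
set_option linter.style.haveILetI false

universe u

open MvPolynomial IsLocalRing CIGen OrdQuad

namespace LefPenLib

variable {k : Type u} [Field k] {r d N : ℕ}

theorem exists_coords {G : MvPolynomial (Fin (r + 1)) k} (hG : G.IsHomogeneous d) :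
    ∃ c : Exp r d → k, form1 c = G := by
  classical
  refine ⟨fun s => coeff s.1 G, MvPolynomial.ext _ _ fun e => ?_⟩
  simp only [form1, coeff_sum, coeff_monomial]
  by_cases he : e.degree = d
  · rw [Finset.sum_eq_single (⟨e, he⟩ : Exp r d) (fun t _ ht => if_neg fun h => ht (Subtype.ext h))
      (fun h => absurd (Finset.mem_univ _) h), if_pos rfl]
  · rw [hG.coeff_eq_zero (by simpa using he)]
    exact Finset.sum_eq_zero fun t _ => if_neg fun h : t.1 = e => he (h ▸ t.2)

theorem line_linear (x y : Fin (r + 1) → k) {p : MvPolynomial (Fin (r + 1)) k} (hp : p.IsHomogeneous 1) :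
    line x y p = Polynomial.C (eval x p) + Polynomial.X * Polynomial.C (eval y p) := by
  have hp' : p ∈ Submodule.span k (Set.range (MvPolynomial.X : Fin (r + 1) → MvPolynomial (Fin (r + 1)) k)) := by
    rw [← homogeneousSubmodule_one_eq_span_X]; exact (mem_homogeneousSubmodule 1 p).2 hp
  induction hp' using Submodule.span_induction with
  | mem z hz => obtain ⟨q, rfl⟩ := hz; simp [line]
  | zero => simp
  | add a b ha hb iha ihb =>
    have ha1 : a.IsHomogeneous 1 := by
      rw [← mem_homogeneousSubmodule, homogeneousSubmodule_one_eq_span_X]; exact ha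
    have hb1 : b.IsHomogeneous 1 := by
      rw [← mem_homogeneousSubmodule, homogeneousSubmodule_one_eq_span_X]; exact hb
    rw [map_add, iha ha1, ihb hb1, map_add, map_add, map_add, map_add]; ring
  | smul c a ha iha =>
    have ha1 : a.IsHomogeneous 1 := by
      rw [← mem_homogeneousSubmodule, homogeneousSubmodule_one_eq_span_X]; exact ha
    rw [smul_eq_C_mul, map_mul, iha ha1, show line x y (C c : MvPolynomial (Fin (r + 1)) k) = Polynomial.C c from eval₂Hom_C ..]
    simp only [map_mul, eval_C]
    ring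

theorem quad_quadric (x y : Fin (r + 1) → k) {p : MvPolynomial (Fin (r + 1)) k} (hp : p.IsHomogeneous 2) :
    quad x y p = eval y p := by
  have hp' : p ∈ homogeneousSubmodule (Fin (r + 1)) k 1 * homogeneousSubmodule (Fin (r + 1)) k 1 := by
    rw [← pow_two, homogeneousSubmodule_one_pow]; exact (mem_homogeneousSubmodule 2 p).2 hp
  clear hp
  induction hp' using Submodule.mul_induction_on' with
  | mem_mul_mem a ha b hb =>
    rw [quad, map_mul, line_linear x y ((mem_homogeneousSubmodule 1 a).1 ha),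
      line_linear x y ((mem_homogeneousSubmodule 1 b).1 hb), map_mul,
      show (Polynomial.C (eval x a) + Polynomial.X * Polynomial.C (eval y a)) *
          (Polynomial.C (eval x b) + Polynomial.X * Polynomial.C (eval y b)) =
        Polynomial.C (eval x a * eval x b) + Polynomial.C (eval x a * eval y b + eval y a * eval x b) * Polynomial.X +
          Polynomial.C (eval y a * eval y b) * Polynomial.X ^ 2 by simp only [map_add, map_mul]; ring]
    simp [← map_mul]
  | add a ha b hb iha ihb =>
    rw [quad] at iha ihb ⊢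
    rw [map_add, Polynomial.coeff_add, iha, ihb, map_add]

variable [IsAlgClosed k] {K : Type u} [Field K] [Algebra k K] {ξ : Fin (r + 1) → K}
  {F : Fin N → MvPolynomial (Fin (r + 1)) k} {e : Fin N → ℕ}

/-- Some form is singular at the point with nondegenerate quadratic part on the tangent space. -/
theorem exists_nondeg_form (hF : IsEqn ξ F e) {m : ℕ}
    (hreg : ∀ j, ξ j ≠ 0 → ∀ (M : Ideal (MvPolynomial (Fin (r + 1)) k ⧸ chartIdeal (k := k) ξ j)) [M.IsMaximal],
      IsRegularLocalRing (Localization.AtPrime M))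
    {v : Fin (r + 1) → k} (hv : Zero F v) {j : Fin (r + 1)} (hvj : v j = 1)
    (hW : Module.finrank k (Submodule.span k (Set.range fun l => grad v (F l))) + (m + 1) = r) (hd : 2 ≤ d) :
    ∃ c : Exp r d → k, eval v (form1 c) = 0 ∧ grad v (form1 c) = 0 ∧ ¬ DegW F j v (form1 c) := by
  classical
  let A := MvPolynomial (Fin (r + 1)) k ⧸ chartIdeal (k := k) ξ j
  let β : MvPolynomial (Fin (r + 1)) k →+* A := Ideal.Quotient.mk _
  haveI : (RingHom.ker (eval v)).IsMaximal := RingHom.ker_isMaximal_of_surjective _ fun x => ⟨C x, eval_C x⟩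
  have hle : RingHom.ker β ≤ RingHom.ker (eval v) := by rw [Ideal.mk_ker]; exact chartIdeal_le hF hv hvj
  let mm : Ideal A := (RingHom.ker (eval v)).map β
  haveI : mm.IsMaximal := Ideal.IsMaximal.map_of_surjective_of_ker_le Ideal.Quotient.mk_surjective hle
  have hm : mm.comap β = RingHom.ker (eval v) := by
    rw [Ideal.comap_map_of_surjective _ Ideal.Quotient.mk_surjective, ← RingHom.ker_eq_comap_bot, sup_eq_left.2 hle]
  haveI := hreg j (ne_zero_of_zero hF hv (by rw [hvj]; exact one_ne_zero)) mm
  obtain ⟨φ, L, -, hP, -, -⟩ := exists_param (R := Localization.AtPrime mm) hF hv hvj hW β Ideal.Quotient.mk_surjective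
    Ideal.mk_ker mm hm (fun c => IsScalarTower.algebraMap_apply k A (Localization.AtPrime mm) c)
  let Lm : (Fin (m + 1) → k) →ₗ[k] (Fin (r + 1) → k) := LinearMap.pi fun q => ∑ a, L q a • LinearMap.proj a
  have hLm : ∀ w, Lm w = OrdQuad.lin L w := fun w => funext fun q => by simp [Lm, OrdQuad.lin]
  obtain ⟨P, hP'⟩ := Lm.exists_leftInverse_of_injective (LinearMap.ker_eq_bot'.2 fun w hw => hP.inj w (by rw [← hLm, hw]))
  let y : Fin (m + 1) → MvPolynomial (Fin (r + 1)) k := fun a =>
    ∑ q, C (P (Pi.single q 1) a) * (MvPolynomial.X q - C (v q) * MvPolynomial.X j)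
  have hLj : ∀ a, L j a = 0 := fun a => by
    have := ((hP.range (OrdQuad.lin L (Pi.single a 1))).2 ⟨_, rfl⟩).1
    simpa [OrdQuad.lin, Pi.single_apply] using this
  have hXj : affSub v L (MvPolynomial.X j) = 1 := by simp [affSub, hvj, hLj]
  have hy : ∀ a, affSub v L (y a) = MvPolynomial.X a := fun a => by
    have h1 : ∀ q, affSub v L (MvPolynomial.X q - C (v q) * MvPolynomial.X j) = ∑ b, C (L q b) * MvPolynomial.X b := fun q => by
      rw [map_sub, map_mul, hXj, mul_one]
      simp [affSub]
    simp only [y, map_sum, map_mul, h1, Finset.mul_sum]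
    have key : ∀ b, ∑ q, P (Pi.single q 1) a * L q b = (Pi.single b 1 : Fin (m + 1) → k) a := fun b => by
      have h2 := congrFun (LinearMap.congr_fun hP' (Pi.single b 1)) a
      rw [LinearMap.comp_apply, hLm, pi_eq_sum_univ' (OrdQuad.lin L (Pi.single b 1)), map_sum] at h2
      simpa [OrdQuad.lin, Pi.single_apply, mul_comm] using h2
    rw [Finset.sum_comm]
    simp only [affSub, aeval_C, MvPolynomial.algebraMap_eq, ← mul_assoc, ← Finset.sum_mul, ← map_mul, ← map_sum, key]
    simp [Pi.single_apply]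
  obtain ⟨q₀, hq₀, hq₀n⟩ := OrdQuad.exists_nondeg (k := k) (m + 1)
  have hyh : ∀ a, (y a).IsHomogeneous 1 := fun a => IsHomogeneous.sum _ _ _ fun q _ => by
    simpa using (isHomogeneous_C _ _).mul ((isHomogeneous_X k q).sub
      (by simpa using (isHomogeneous_C _ (v q)).mul (isHomogeneous_X k j)))
  let G : MvPolynomial (Fin (r + 1)) k := MvPolynomial.X j ^ (d - 2) * aeval y q₀
  have hG : G.IsHomogeneous d := by
    have := ((isHomogeneous_X k j).pow (d - 2)).mul (hq₀.aeval _ hyh)
    rwa [show 1 * (d - 2) + 1 * 2 = d by omega] at this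
  have hGaff : affSub v L G = q₀ := by
    have h1 : affSub v L (aeval y q₀) = q₀ := by
      have : (affSub v L).comp (aeval y) = AlgHom.id k _ := algHom_ext fun a => by simpa using hy a
      exact AlgHom.congr_fun this q₀
    rw [map_mul, map_pow, hXj, one_pow, one_mul, h1]
  have hGv : G ∈ RingHom.ker (eval v) ^ 2 := by
    refine Ideal.mul_mem_left _ _ ?_
    have h1 : (MvPolynomial.idealOfVars (Fin (m + 1)) k).map (aeval y).toRingHom ≤ RingHom.ker (eval v) := by
      rw [MvPolynomial.idealOfVars, Ideal.map_span, Ideal.span_le]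
      rintro _ ⟨_, ⟨a, rfl⟩, rfl⟩
      simp [y, RingHom.mem_ker, map_sum, hvj]
    refine Ideal.pow_right_mono h1 2 ?_
    rw [← Ideal.map_pow]
    exact Ideal.mem_map_of_mem _ ((mem_pow_idealOfVars_iff' _ _).2 fun s hs => hq₀.coeff_eq_zero (by omega))
  obtain ⟨c, hc⟩ := exists_coords hG
  refine ⟨c, by rw [hc]; exact (Ideal.pow_le_self two_ne_zero hGv : G ∈ RingHom.ker (eval v)),
    by rw [hc]; exact grad_sq v hGv, ?_⟩
  rw [hc, degW_iff hP, qform, hGaff, homogeneousComponent_of_mem ((mem_homogeneousSubmodule 2 _).2 hq₀), if_pos rfl]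
  rintro ⟨w, hw, hw0, hwd⟩
  exact hw (hq₀n w hw0 hwd)

/-- Nondegeneracy at a fixed point is an open condition on the form. -/
theorem degW_closed (j : Fin (r + 1)) (v : Fin (r + 1) → k)
    (π : (Exp r d → k) →ₗ[k] (Exp r d → k)) :
    PolyClosed {a : Exp r d → k | DegW F j v (form1 (π a))} := by
  classical
  let A := MvPolynomial (Exp r d ⊕ Fin (r + 1)) k
  let cg : Exp r d → A := fun s => ∑ x, C (π (Pi.single x 1) s) * X (Sum.inl x)
  let wg : Fin (r + 1) → A := fun q => X (Sum.inr q)
  let vg : Fin (r + 1) → A := fun q => C (v q)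
  let E : Unit ⊕ Fin N ⊕ Unit ⊕ {u : Fin (r + 1) → k // TanV F j v u} → A :=
    Sum.elim (fun _ => wg j) (Sum.elim (fun l => ∑ q, wg q * C (grad v (F l) q))
      (Sum.elim (fun _ => quad vg wg (formR cg)) fun u => ∑ q, C (u.1 q) * hess vg wg (formR cg) q))
  have hev : ∀ (a : Exp r d → k) (w : Fin (r + 1) → k),
      (∀ x, eval (Sum.elim a w) (E x) = 0) ↔
        TanV F j v w ∧ quad v w (form1 (π a)) = 0 ∧ ∀ u, TanV F j v u → ∑ q, u q * hess v w (form1 (π a)) q = 0 := by
    intro a w
    have hc : (fun s => aeval (Sum.elim a w) (cg s)) = π a := funext fun s => by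
      conv_rhs => rw [pi_eq_sum_univ' a, map_sum]
      simp only [cg, map_sum, map_mul, aeval_C, aeval_X, Sum.elim_inl, Finset.sum_apply, map_smul, Pi.smul_apply,
        smul_eq_mul, Algebra.algebraMap_self, RingHom.id_apply]
      exact Finset.sum_congr rfl fun x _ => mul_comm _ _
    have hvg : (fun q => aeval (Sum.elim a w) (vg q)) = v := funext fun q => by simp [vg]
    have hwg : (fun q => aeval (Sum.elim a w) (wg q)) = w := funext fun q => by simp [wg]
    have hf : formR (π a) = form1 (π a) := rfl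
    simp only [← aeval_eq_eval, E, Sum.forall, Sum.elim_inl, Sum.elim_inr, map_sum, map_mul, map_quad, map_hess, map_formR,
      hc, hvg, hwg, hf, aeval_C, Algebra.algebraMap_self, RingHom.id_apply, wg, aeval_X, forall_const, Subtype.forall,
      TanV]
    exact ⟨fun ⟨h1, h2, h3, h4⟩ => ⟨⟨h1, h2⟩, h3, fun u hu => h4 u hu⟩, fun ⟨⟨h1, h2⟩, h3, h4⟩ => ⟨h1, h2, h3, h4⟩⟩
  have hcl : PolyClosed {p : Exp r d ⊕ Fin (r + 1) → k | ∀ x, eval p (E x) = 0} := polyClosed_zeros E
  have hproj := hcl.proj (fun a w s _ h => (hev _ _).2 (by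
    obtain ⟨⟨h1, h2⟩, h3, h4⟩ := (hev a w).1 h
    refine ⟨⟨by simp [h1], fun l => ?_⟩, by rw [quad_smul, h3, mul_zero], fun u hu => ?_⟩
    · simp only [mul_assoc, ← Finset.mul_sum, h2 l, mul_zero]
    · simp only [hess_smul, mul_left_comm _ s, ← Finset.mul_sum, h4 u hu, mul_zero]))
  convert hproj using 1
  ext a
  simp only [Set.mem_ofPred_eq, hev]
  exact Iff.rfl

end LefPenLib
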