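import Groth.Agent.LefPenLib.Jets
import Groth.Agent.LefPenLib.NondegForm
import Mathlib

/-!
# A form tangent at one point only, with nondegenerate quadratic part there
-/

set_option autoImplicit false
set_option linter.unusedSectionVars false
set_option linter.style.haveILetI false

universe u

open MvPolynomial IsLocalRing CIGen OrdQuad

namespace LefPenLib

variable {k : Type u} [Field k] [IsAlgClosed k] {r d N : ℕ} {K : Type u} [Field K] [Algebra k K] {ξ : Fin (r + 1) → K}
  {F : Fin N → MvPolynomial (Fin (r + 1)) k} {e : Fin N → ℕ}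

/-- A hypersurface cuts a chart down by one dimension. -/
theorem piece_dim {n : ℕ} {j : Fin (r + 1)}
    (hdim : ringKrullDim (MvPolynomial (Fin (r + 1)) k ⧸ chartIdeal (k := k) ξ j) = (n : WithBot ℕ∞)) (hn : 1 ≤ n)
    {f : MvPolynomial (Fin (r + 1)) k} (hf : f ∉ chartIdeal ξ j) :
    ringKrullDim (MvPolynomial (Fin (r + 1)) k ⧸ (chartIdeal (k := k) ξ j ⊔ Ideal.span {f})) ≤ ((n - 1 : ℕ) : WithBot ℕ∞) := by
  set P := chartIdeal (k := k) ξ j
  haveI : IsDomain (MvPolynomial (Fin (r + 1)) k ⧸ P) := Ideal.Quotient.isDomain _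
  have hfb : Ideal.Quotient.mk P f ≠ 0 := fun h => hf (Ideal.Quotient.eq_zero_iff_mem.1 h)
  have h := ringKrullDim_succ_le_of_surjective (Ideal.Quotient.factor (le_sup_left : P ≤ P ⊔ Ideal.span {f}))
    (Ideal.Quotient.factor_surjective _) (mem_nonZeroDivisors_of_ne_zero hfb) (by
      rw [Ideal.Quotient.factor_mk, Ideal.Quotient.eq_zero_iff_mem]
      exact (le_sup_right : Ideal.span {f} ≤ P ⊔ Ideal.span {f}) (Ideal.mem_span_singleton_self f))
  rw [hdim] at h
  rw [show ((n : ℕ) : WithBot ℕ∞) = ((n - 1 : ℕ) : WithBot ℕ∞) + 1 by exact_mod_cast (Nat.sub_add_cancel hn).symm] at h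
  exact ENat.WithBot.add_le_add_one_right_iff.1 h

/-- A form vanishing at all rational points vanishes at the generic point. -/
theorem aeval_eq_zero_of_zeros (hF : IsEqn ξ F e) (hξ0 : ∃ j, ξ j ≠ 0) {G : MvPolynomial (Fin (r + 1)) k}
    (hG : G.IsHomogeneous d) (h : ∀ v, Zero F v → eval v G = 0) : aeval ξ G = 0 := by
  obtain ⟨j, hξ⟩ := hξ0
  haveI : IsJacobsonRing (MvPolynomial (Fin (r + 1)) k) := inferInstance
  have hjac : (chartIdeal (k := k) ξ j).jacobson = chartIdeal ξ j :=
    IsJacobsonRing.out inferInstance (Ideal.IsPrime.isRadical inferInstance)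
  rw [← mem_chartIdeal_iff hG hξ, ← hjac, Ideal.jacobson, Ideal.mem_sInf]
  rintro M ⟨hle, hM⟩
  haveI := hM
  obtain ⟨v, rfl⟩ := exists_point M
  exact h v (zero_of_chartIdeal_le hF hle)

theorem exists_zero (hF : IsEqn ξ F e) {j : Fin (r + 1)} (hξ : ξ j ≠ 0) :
    ∃ v : Fin (r + 1) → k, Zero F v ∧ v j = 1 := by
  obtain ⟨M, hM, hle⟩ := Ideal.exists_le_maximal _ (Ideal.IsPrime.ne_top (I := chartIdeal (k := k) ξ j) inferInstance)
  haveI := hM
  obtain ⟨v, rfl⟩ := exists_point M
  exact ⟨v, zero_of_chartIdeal_le hF hle, by simpa [RingHom.mem_ker, sub_eq_zero] using hle (X_sub_one_mem ξ hξ)⟩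

/-- On a linear variety a quadric with a nondegenerate singular point has no other singular point. -/
theorem linear_case (hF : IsEqn ξ F e) (hξ0 : ∃ j, ξ j ≠ 0)
    (hlin : ∀ v0 v, Zero F v0 → Zero F v → ∀ l, dotV v0 (grad v (F l)) = 0)
    {v0 : Fin (r + 1) → k} (hv0 : Zero F v0) {j0 : Fin (r + 1)} (hj0 : v0 j0 = 1) {G : MvPolynomial (Fin (r + 1)) k}
    (hG : G.IsHomogeneous 2) (hG0 : eval v0 G = 0) (hgr : grad v0 G = 0) (hnd : ¬ DegW F j0 v0 G)
    {w : Fin (r + 1) → k} (hw : BadAt F w G) : w = fun q => w j0 * v0 q := by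
  classical
  have hspan : ∀ v v' : Fin (r + 1) → k, Zero F v → Zero F v' →
      ∀ x ∈ Submodule.span k (Set.range fun l => grad v (F l)), dotV v' x = 0 := fun v v' hv hv' x hx =>
    (Submodule.span_le.2 (by rintro _ ⟨l, rfl⟩; exact hlin v' v hv' hv l) : _ ≤ LinearMap.ker (dotV v')) hx
  have hann : ∀ (a : Fin (r + 1) → k), (∀ v, Zero F v → dotV v a = 0) → ∀ v, Zero F v →
      a ∈ Submodule.span k (Set.range fun l => grad v (F l)) := fun a ha v hv => by
    have hl : (CIGen.lin a).IsHomogeneous 1 := IsHomogeneous.sum _ _ _ fun q _ => by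
      simpa using (isHomogeneous_C _ (a q)).mul (isHomogeneous_X k q)
    have h := (badAt_of_vanish hF hl (aeval_eq_zero_of_zeros hF hξ0 hl fun v hv => by rw [eval_lin]; exact ha v hv) hv).2.2
    rwa [grad_lin] at h
  let u : Fin (r + 1) → k := fun q => w q - w j0 * v0 q
  have hpd : ∀ q, eval u (pderiv q G) = eval w (pderiv q G) := fun q => by
    have h := line_linear u v0 (hG.pderiv (i := q))
    have h' := congrArg (fun P : Polynomial k => P.eval (w j0)) h
    simp only [eval_line, Polynomial.eval_add, Polynomial.eval_mul, Polynomial.eval_C, Polynomial.eval_X] at h'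
    rw [show (fun q => u q + w j0 * v0 q) = w from funext fun q => by simp [u],
      show eval v0 (pderiv q G) = 0 from congrFun hgr q, mul_zero, add_zero] at h'
    exact h'.symm
  have hgu : eval u G = 0 := by
    have h : eval (fun q => v0 q + 1 * u q) G = eval u G := by
      rw [← eval_line]
      have h2 : (line v0 u G).coeff 2 = eval u G := quad_quadric v0 u hG
      have h0 : (line v0 u G).coeff 0 = 0 := by rw [coeff_zero_line, hG0]
      have h1 : (line v0 u G).coeff 1 = 0 := by
        rw [coeff_one_line]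
        exact Finset.sum_eq_zero fun q _ => by rw [show eval v0 (pderiv q G) = 0 from congrFun hgr q, mul_zero]
      have hdeg : (line v0 u G).natDegree ≤ 2 := by
        have hp' : G ∈ homogeneousSubmodule (Fin (r + 1)) k 1 * homogeneousSubmodule (Fin (r + 1)) k 1 := by
          rw [← pow_two, homogeneousSubmodule_one_pow]; exact (mem_homogeneousSubmodule 2 G).2 hG
        clear_value u
        clear hpd hG0 hgr hnd hw h2 h0 h1 hG
        induction hp' using Submodule.mul_induction_on' with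
        | mem_mul_mem a ha b hb =>
          rw [map_mul, line_linear _ _ ((mem_homogeneousSubmodule 1 a).1 ha),
            line_linear _ _ ((mem_homogeneousSubmodule 1 b).1 hb)]
          compute_degree
        | add a ha b hb iha ihb =>
          rw [map_add]
          exact Polynomial.natDegree_add_le_of_degree_le iha ihb
      rw [Polynomial.eval_eq_sum_range' (n := 3) (by omega)]
      simp [Finset.sum_range_succ, h0, h1, h2]
    have hw2 : eval (fun q => u q + w j0 * v0 q) G = 0 := by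
      rw [show (fun q => u q + w j0 * v0 q) = w from funext fun q => by simp [u]]
      exact hw.2.1
    rw [← eval_line] at hw2
    have h2 : (line u v0 G).coeff 2 = eval v0 G := quad_quadric u v0 hG
    have h1 : (line u v0 G).coeff 1 = 0 := by
      rw [coeff_one_line]
      simp only [hpd]
      have := hspan w v0 hw.1 hv0 _ hw.2.2
      rwa [dotV_apply] at this
    have hdeg : (line u v0 G).natDegree ≤ 2 := by
      have hp' : G ∈ homogeneousSubmodule (Fin (r + 1)) k 1 * homogeneousSubmodule (Fin (r + 1)) k 1 := by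
        rw [← pow_two, homogeneousSubmodule_one_pow]; exact (mem_homogeneousSubmodule 2 G).2 hG
      clear_value u
      clear hpd hG0 hgr hnd hw h hw2 h2 h1 hG
      induction hp' using Submodule.mul_induction_on' with
      | mem_mul_mem a ha b hb =>
        rw [map_mul, line_linear _ _ ((mem_homogeneousSubmodule 1 a).1 ha),
          line_linear _ _ ((mem_homogeneousSubmodule 1 b).1 hb)]
        compute_degree
      | add a ha b hb iha ihb =>
        rw [map_add]
        exact Polynomial.natDegree_add_le_of_degree_le iha ihb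
    rw [Polynomial.eval_eq_sum_range' (n := 3) (by omega)] at hw2
    simpa [Finset.sum_range_succ, h1, h2, hG0, coeff_zero_line] using hw2
  have hu : u = 0 := by
    by_contra hne
    refine hnd ⟨u, hne, ⟨by simp [u, hj0], fun l => ?_⟩, by rw [quad_quadric v0 u hG, hgu], fun z hz => ?_⟩
    · have h1 := hlin w v0 hw.1 hv0 l
      have h2 := hlin v0 v0 hv0 hv0 l
      rw [dotV_apply] at h1 h2
      simp only [u, sub_mul, Finset.sum_sub_distrib, mul_assoc, ← Finset.mul_sum, h1, h2, mul_zero, sub_zero]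
    · have hhess : ∀ q, hess v0 u G q = eval w (pderiv q G) := fun q => by
        rw [hess, line_linear v0 u (hG.pderiv (i := q)), Polynomial.coeff_add, Polynomial.coeff_C, if_neg one_ne_zero,
          zero_add, Polynomial.coeff_X_mul, Polynomial.coeff_C_zero, hpd]
      simp only [hhess]
      have hmem : grad w G ∈ Submodule.span k (Set.range fun l => grad v0 (F l)) :=
        hann _ (fun v hv => hspan w v hw.1 hv _ hw.2.2) v0 hv0
      have := (Submodule.span_le.2 (by
        rintro _ ⟨l, rfl⟩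
        show dotV z (grad v0 (F l)) = 0
        rw [dotV_apply]; exact hz.2 l) : _ ≤ LinearMap.ker (dotV z)) hmem
      rw [LinearMap.mem_ker, dotV_apply] at this
      exact this
  funext q
  exact sub_eq_zero.1 (congrFun hu q)

/-- A functional vanishing at one point and not at another. -/
theorem exists_sep_vec {v0 w : Fin (r + 1) → k} (h : w ∉ Submodule.span k {v0}) :
    ∃ a : Fin (r + 1) → k, dotV v0 a = 0 ∧ dotV w a = 1 := by
  classical
  obtain ⟨ψ, hψ, hker⟩ := (Submodule.span k {v0}).exists_le_ker_of_notMem h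
  refine ⟨fun q => (ψ w)⁻¹ * ψ (Pi.single q 1), ?_, ?_⟩ <;>
    rw [dotV_apply] <;> simp only [mul_left_comm _ (ψ w)⁻¹, ← Finset.mul_sum]
  · rw [show ∑ q, v0 q * ψ (Pi.single q 1) = ψ v0 by
      conv_rhs => rw [pi_eq_sum_univ' v0]
      simp [map_sum], show ψ v0 = 0 from hker (Submodule.mem_span_singleton_self v0), mul_zero]
  · rw [show ∑ q, w q * ψ (Pi.single q 1) = ψ w by
      conv_rhs => rw [pi_eq_sum_univ' w]
      simp [map_sum]]
    exact inv_mul_cancel₀ hψ

variable {m : ℕ}

/-- For `d ≥ 2` some form is tangent at exactly one point, with nondegenerate quadratic part there. -/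
theorem exists_one_point (hF : IsEqn ξ F e)
    (hdim : ∀ j, ξ j ≠ 0 → ringKrullDim (MvPolynomial (Fin (r + 1)) k ⧸ chartIdeal (k := k) ξ j) = ((m + 1 : ℕ) : WithBot ℕ∞))
    (hreg : ∀ j, ξ j ≠ 0 → ∀ (M : Ideal (MvPolynomial (Fin (r + 1)) k ⧸ chartIdeal (k := k) ξ j)) [M.IsMaximal],
      IsRegularLocalRing (Localization.AtPrime M))
    (hWr : ∀ v, Zero F v → v ≠ 0 → Module.finrank k (Submodule.span k (Set.range fun l => grad v (F l))) + (m + 1) = r)
    (hξ0 : ∃ j, ξ j ≠ 0) (hd : 2 ≤ d) :
    ∃ (c : Exp r d → k) (j0 : Fin (r + 1)) (v0 : Fin (r + 1) → k), v0 j0 = 1 ∧ BadAt F v0 (form1 c) ∧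
      Nondeg F j0 v0 (form1 c) ∧ aeval ξ (form1 c) ≠ 0 ∧
      ∀ v, v ≠ 0 → BadAt F v (form1 c) → v j0 ≠ 0 ∧ (v j0 = 1 → v = v0) := by
  classical
  -- the centre
  obtain ⟨j0, v0, hv0, hj0, hgen⟩ : ∃ (j0 : Fin (r + 1)) (v0 : Fin (r + 1) → k), Zero F v0 ∧ v0 j0 = 1 ∧
      (3 ≤ d ∨ (∀ v0 v, Zero F v0 → Zero F v → ∀ l, dotV v0 (grad v (F l)) = 0) ∨
        ∃ l, ∃ v, Zero F v ∧ dotV v0 (grad v (F l)) ≠ 0) := by
    by_cases h : 3 ≤ d ∨ ∀ v0 v, Zero F v0 → Zero F v → ∀ l, dotV v0 (grad v (F l)) = 0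
    · obtain ⟨j, hj⟩ := hξ0
      obtain ⟨v, hv, hvj⟩ := exists_zero hF hj
      exact ⟨j, v, hv, hvj, h.imp_right Or.inl⟩
    · push Not at h
      obtain ⟨-, v0, v, hv0, hv, l, hl⟩ := h
      have hv0n : v0 ≠ 0 := fun h0 => hl (by simp [h0, dotV_apply])
      obtain ⟨j, hj⟩ := Function.ne_iff.1 hv0n
      refine ⟨j, fun q => (v0 j)⁻¹ * v0 q, fun l' => ?_, inv_mul_cancel₀ hj, Or.inr (Or.inr ⟨l, v, hv, ?_⟩)⟩
      · rw [eval_smul_of_homogeneous (hF.homog l'), hv0 l', mul_zero]
      · simp only [dotV_apply, mul_assoc, ← Finset.mul_sum] at hl ⊢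
        exact mul_ne_zero (inv_ne_zero hj) hl
  have hne : ∀ {v : Fin (r + 1) → k} {a : Fin (r + 1)}, v a = 1 → v ≠ 0 := fun {v a} hv h =>
    one_ne_zero (α := k) (by rw [← hv, h]; rfl)
  let cd := r - (m + 1)
  have hcd : cd + (m + 1) = r := Nat.sub_add_cancel (by have := hWr v0 hv0 (hne hj0); omega)
  -- forms singular at the centre
  let Lz := LinearMap.ker ((jet v0).comp (form1L (r := r) (d := d) (k := k)))
  obtain ⟨π0, hπ0⟩ := Lz.subtype.exists_leftInverse_of_injective (Submodule.ker_subtype _)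
  let π : (Exp r d → k) →ₗ[k] (Exp r d → k) := Lz.subtype.comp π0
  have hπmem : ∀ a, jet v0 (form1 (π a)) = 0 := fun a => (π0 a).2
  have hπfix : ∀ c, jet v0 (form1 c) = 0 → π c = c := fun c hc => by
    have := LinearMap.congr_fun hπ0 ⟨c, hc⟩
    exact congrArg Subtype.val this
  have hπ1 : ∀ a, eval v0 (form1 (π a)) = 0 := fun a => congrFun (hπmem a) none
  have hπ2 : ∀ a, grad v0 (form1 (π a)) = 0 := fun a => funext fun q => congrFun (hπmem a) (some q)
  -- nondegeneracy
  obtain ⟨c1, hc10, hc11, hc12⟩ := exists_nondeg_form (d := d) hF hreg hv0 hj0 (hWr v0 hv0 (hne hj0)) hd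
  obtain ⟨Φn, hΦn, hΦn'⟩ := degW_closed (F := F) j0 v0 π c1 (by
    show ¬ DegW F j0 v0 (form1 (π c1))
    rwa [hπfix c1 (funext fun o => by
      cases o
      exacts [hc10, congrFun hc11 _])])
  -- the small pieces
  let g : Exp r d → MvPolynomial (Fin (r + 1)) k := fun x => form1 (π (Pi.single x 1))
  have hpiece : ∀ x : {j // ξ j ≠ 0} × (Fin cd → Fin N), ∃ Φ : MvPolynomial (Exp r d) k, Φ ≠ 0 ∧
      ∀ (w : Fin (r + 1) → k) (a : Exp r d → k), chartIdeal ξ x.1.1 ≤ RingHom.ker (eval w) →
        r + 1 ≤ Module.finrank k (jspan w g fun b => F (x.2 b)) → eval w (form1 (π a)) = 0 →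
        grad w (form1 (π a)) ∈ Submodule.span k (Set.range fun b => grad w (F (x.2 b))) → eval a Φ = 0 := fun x => by
    obtain ⟨Φ, h0, hΦ⟩ := incidence (chartIdeal ξ x.1.1) (m + 1) (hdim _ x.1.2).le g (fun b => F (x.2 b)) (r + 1)
      (by rw [Fintype.card_fin]; omega)
    exact ⟨Φ, h0, fun w a h1 h2 h3 h4 => hΦ w a h1 h2 (by rwa [sum_smul_form1]) (by rwa [sum_smul_form1])⟩
  choose ΦA hΦA0 hΦA using hpiece
  let D : Fin N → MvPolynomial (Fin (r + 1)) k := fun l => ∑ q, C (v0 q) * pderiv q (F l)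
  have hD : ∀ l w, eval w (D l) = dotV v0 (grad w (F l)) := fun l w => by simp [D, dotV_apply, grad]
  have hpieceB : ∀ x : {x : Fin N × {j // ξ j ≠ 0} // D x.1 ∉ chartIdeal ξ x.2.1} × (Fin cd → Fin N),
      ∃ Φ : MvPolynomial (Exp r d) k, Φ ≠ 0 ∧ ∀ (w : Fin (r + 1) → k) (a : Exp r d → k),
        chartIdeal ξ x.1.1.2.1 ≤ RingHom.ker (eval w) → eval w (D x.1.1.1) = 0 →
        r ≤ Module.finrank k (jspan w g fun b => F (x.2 b)) → eval w (form1 (π a)) = 0 →
        grad w (form1 (π a)) ∈ Submodule.span k (Set.range fun b => grad w (F (x.2 b))) → eval a Φ = 0 := fun x => by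
    obtain ⟨Φ, h0, hΦ⟩ := incidence (chartIdeal ξ x.1.1.2.1 ⊔ Ideal.span {D x.1.1.1}) (m + 1 - 1)
      (piece_dim (hdim _ x.1.1.2.2) (by omega) x.1.2) g (fun b => F (x.2 b)) r
      (by rw [Fintype.card_fin]; omega)
    exact ⟨Φ, h0, fun w a h1 h1' h2 h3 h4 => hΦ w a
      (sup_le h1 ((Ideal.span_singleton_le_iff_mem _).2 h1')) h2 (by rwa [sum_smul_form1]) (by rwa [sum_smul_form1])⟩
  choose ΦB hΦB0 hΦB using hpieceB
  obtain ⟨a, ha⟩ : ∃ a, eval a (Φn * (∏ x, ΦA x) * ∏ x, ΦB x) ≠ 0 := by
    by_contra hall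
    push Not at hall
    refine mul_ne_zero (mul_ne_zero (fun h : Φn = 0 => hΦn (by rw [h, map_zero])) (Finset.prod_ne_zero_iff.2 fun x _ => hΦA0 x))
      (Finset.prod_ne_zero_iff.2 fun x _ => hΦB0 x) (MvPolynomial.funext fun a => by rw [hall a, map_zero])
  simp only [map_mul, map_prod, mul_ne_zero_iff, Finset.prod_ne_zero_iff, Finset.mem_univ, forall_true_left] at ha
  obtain ⟨⟨han, haA⟩, haB⟩ := ha
  set G := form1 (π a)
  have hGh : G.IsHomogeneous d := isHomogeneous_form1 _
  have hnd : ¬ DegW F j0 v0 G := fun h => han (hΦn' a h)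
  have hb0 : BadAt F v0 G := ⟨hv0, hπ1 a, by rw [hπ2 a]; exact Submodule.zero_mem _⟩
  -- no other tangency point
  have huniq : ∀ w j, w j = 1 → BadAt F w G → w ∈ Submodule.span k {v0} := by
    intro w j hwj hw
    by_contra hnot
    have hξ := ne_zero_of_zero hF hw.1 (j := j) (by rw [hwj]; exact one_ne_zero)
    have hle := chartIdeal_le hF hw.1 hwj
    obtain ⟨α, hα0, hα1⟩ := exists_sep_vec hnot
    have hWw : Module.finrank k (Submodule.span k (Set.range fun l => grad w (F l))) = cd := by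
      have := hWr w hw.1 (hne hwj); omega
    obtain ⟨f, hf, hfspan, -⟩ := Submodule.exists_fun_fin_finrank_span_eq k (Set.range fun l => grad w (F l))
    choose S hS using hf
    let S' : Fin cd → Fin N := fun b => S (Fin.cast hWw.symm b)
    have hS' : Submodule.span k (Set.range fun b => grad w (F (S' b))) = Submodule.span k (Set.range fun l => grad w (F l)) := by
      rw [← hfspan, ← Function.Surjective.range_comp (fun b => ⟨Fin.cast hWw b, rfl⟩ : Function.Surjective (Fin.cast hWw.symm)) f]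
      exact congrArg (fun h => Submodule.span k (Set.range h)) (funext fun b => hS _)
    have hgr : grad w G ∈ Submodule.span k (Set.range fun b => grad w (F (S' b))) := by rw [hS']; exact hw.2.2
    -- multiples of linear forms by a fixed form
    have hsys : ∀ p : MvPolynomial (Fin (r + 1)) k, p.IsHomogeneous (d - 1) → eval w p = 1 →
        ∀ b, jet v0 (p * CIGen.lin b) = 0 → jet w (p * CIGen.lin b) ∈ jspan w g fun b => F (S' b) := fun p hp hp1 b hb => by
      obtain ⟨c, hc⟩ := exists_coords (d := d) (G := p * CIGen.lin b) (by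
        have hl : (CIGen.lin b).IsHomogeneous 1 := IsHomogeneous.sum _ _ _ fun q _ => by
          simpa using (isHomogeneous_C _ (b q)).mul (isHomogeneous_X k q)
        have := hp.mul hl
        rwa [Nat.sub_add_cancel (by omega : 1 ≤ d)] at this)
      rw [← hc] at hb ⊢
      exact jet_mem_jspan π _ w (hπfix c hb)
    have hjet0 : ∀ p : MvPolynomial (Fin (r + 1)) k, eval v0 p = 0 → ∀ b, (dotV v0 b = 0 ∨ grad v0 p = 0) →
        jet v0 (p * CIGen.lin b) = 0 := fun p hp b hb => by
      funext o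
      show o.elim (eval v0 (p * CIGen.lin b)) (grad v0 (p * CIGen.lin b)) = 0
      rw [map_mul, hp, zero_mul, grad_mul, hp, zero_smul, add_zero, eval_lin]
      rcases hb with hb | hb <;> cases o <;> simp [hb]
    have hαh : (CIGen.lin α).IsHomogeneous 1 := IsHomogeneous.sum _ _ _ fun q _ => by
      simpa using (isHomogeneous_C _ (α q)).mul (isHomogeneous_X k q)
    rcases Nat.lt_or_ge d 3 with hd3 | hd3
    swap
    · let p := CIGen.lin α * CIGen.lin α * MvPolynomial.X j ^ (d - 3)
      have hp : p.IsHomogeneous (d - 1) := by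
        have := (hαh.mul hαh).mul ((isHomogeneous_X k j).pow (d - 3))
        rwa [show 1 + 1 + 1 * (d - 3) = d - 1 by omega] at this
      have hp1 : eval w p = 1 := by simp [p, eval_lin, hα1, hwj]
      refine haA (⟨j, hξ⟩, S') (hΦA _ w a hle ?_ hw.2.1 hgr)
      have := le_finrank_of_injOn ⊤ ((jet w).comp (mulLin p)) (jspan w g fun b => F (S' b))
        (fun b _ h => jet_mul_lin_injective hp1 h) fun b _ => hsys p hp hp1 b (hjet0 p (by simp [p, eval_lin, hα0]) b
          (Or.inr (by simp only [p, grad_mul, eval_lin, hα0, map_mul, zero_smul, mul_zero, add_zero, smul_zero])))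
      rwa [finrank_top, Module.finrank_fin_fun] at this
    obtain rfl : d = 2 := by omega
    rcases hgen with hgen | hlin | ⟨l, v, hv, hl⟩
    · omega
    · exact hnot (Submodule.mem_span_singleton.2 ⟨w j0, (linear_case hF hξ0 hlin hv0 hj0 hGh (hπ1 a) (hπ2 a) hnd hw).symm⟩)
    have hp : (CIGen.lin α).IsHomogeneous (2 - 1) := hαh
    have hp1 : eval w (CIGen.lin α) = 1 := by rw [eval_lin, hα1]
    have hker : ∀ b ∈ LinearMap.ker (dotV v0), jet w (CIGen.lin α * CIGen.lin b) ∈ jspan w g fun b => F (S' b) :=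
      fun b hb => hsys _ hp hp1 b (hjet0 _ (by rw [eval_lin, hα0]) b (Or.inl hb))
    by_cases hDw : eval w (D l) = 0
    · have hDn : D l ∉ chartIdeal ξ j := by
        intro hmem
        have hDh : (D l).IsHomogeneous (e l - 1) := IsHomogeneous.sum _ _ _ fun q _ => by
          simpa using (isHomogeneous_C _ (v0 q)).mul (hF.homog l).pderiv
        have h := (badAt_of_vanish hF hDh ((mem_chartIdeal_iff hDh hξ).1 hmem) hv).2.1
        rw [hD] at h
        exact hl h
      refine haB (⟨(l, ⟨j, hξ⟩), hDn⟩, S') (hΦB _ w a hle hDw ?_ hw.2.1 hgr)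
      have := le_finrank_of_injOn (LinearMap.ker (dotV v0)) ((jet w).comp (mulLin (CIGen.lin α)))
        (jspan w g fun b => F (S' b)) (fun b _ h => jet_mul_lin_injective hp1 h) hker
      rwa [finrank_ker_dotV (j := j0) (by rw [hj0]; exact one_ne_zero)] at this
    · refine haA (⟨j, hξ⟩, S') (hΦA _ w a hle ?_ hw.2.1 hgr)
      rw [hD] at hDw
      have := le_finrank_of_injOn ⊤ ((jet w).comp (mulLin (CIGen.lin α)))
        (jspan w g fun b => F (S' b)) (fun b _ h => jet_mul_lin_injective hp1 h) fun b _ => by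
        set x := grad w (F l)
        have hxw : dotV w x = 0 := by rw [dotV_apply, euler (hF.homog l) w, hw.1 l, mul_zero]
        have hx : jet w (CIGen.lin α * CIGen.lin x) ∈ jspan w g fun b => F (S' b) := by
          rw [show jet w (CIGen.lin α * CIGen.lin x) = gjet x by
            rw [jet_mul_lin hp1]; funext o; cases o <;> simp [gjet, hxw]]
          exact gjet_mem_jspan g _ w (by rw [hS']; exact Submodule.subset_span ⟨l, rfl⟩)
        have hb : b = (b - (dotV v0 b / dotV v0 x) • x) + (dotV v0 b / dotV v0 x) • x := by rw [sub_add_cancel]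
        show ((jet w).comp (mulLin (CIGen.lin α))) b ∈ _
        rw [hb, map_add, map_smul]
        refine Submodule.add_mem _ (hker _ ?_) (Submodule.smul_mem _ _ hx)
        rw [LinearMap.mem_ker, map_sub, map_smul, smul_eq_mul, div_mul_cancel₀ _ hDw, sub_self]
      rwa [finrank_top, Module.finrank_fin_fun] at this
  have hu : ∀ v, v ≠ 0 → BadAt F v G → v j0 ≠ 0 ∧ (v j0 = 1 → v = v0) := by
    intro v hv hb
    obtain ⟨j, hj⟩ := Function.ne_iff.1 hv
    obtain ⟨c, hc⟩ := Submodule.mem_span_singleton.1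
      (huniq (fun q => (v j)⁻¹ * v q) j (inv_mul_cancel₀ hj) (badAt_smul hF hGh (inv_ne_zero hj) hb))
    have hvc : v = fun q => v j * c * v0 q := funext fun q => by
      have := congrFun hc q
      rw [Pi.smul_apply, smul_eq_mul] at this
      rw [mul_assoc, this, mul_inv_cancel_left₀ hj]
    refine ⟨fun h0 => hv ?_, fun h1 => ?_⟩
    · rw [hvc] at h0 ⊢
      simp only [hj0, mul_one] at h0
      funext q
      simp [h0]
    · have h2 := congrFun hvc j0
      rw [h1, hj0, mul_one] at h2
      rw [hvc, ← h2]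
      simp
  refine ⟨π a, j0, v0, hj0, hb0, ?_, fun hvan => ?_, hu⟩
  · exact nondeg_of_one hF hreg hv0 hj0 (hWr v0 hv0 (hne hj0)) (hπ1 a) (t₀ := 0) (by simp [hπ2 a]) (by simpa using hnd)
  · have hξ := ne_zero_of_zero hF hv0 (j := j0) (by rw [hj0]; exact one_ne_zero)
    exact false_of_unique_point hF (Nat.succ_ne_zero m) (hdim j0 hξ) hξ
      fun v hv hvj => (hu v (hne hvj) (badAt_of_vanish hF hGh hvan hv)).2 hvj

end LefPenLib
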